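import Cfsg.Agent.Geo.PauliSp.Descent
import Cfsg.Agent.Geo.PauliSp.Fixer
import Cfsg.Agent.Geo.SpEight.Main

/-!
The monomial normaliser of minus type is maximal in the symplectic group.
-/

set_option autoImplicit false
set_option linter.unusedSectionVars false
set_option linter.unusedSimpArgs false
set_option linter.style.haveILetI false
set_option maxHeartbeats 800000

namespace CfsgLib.Geo.PauliSp

open Matrix Module

universe u v

variable {m : ℕ} {F : Type u} [Field F] {V : Type v} [AddCommGroup V] [Module (ZMod 2) V] [Fintype V]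

namespace Sys

variable (S : Sys m F V) [Finite F]

theorem proper_of_half (hIH : S.HalfMax) (hk : 4 ≤ S.k) : ¬ Cfsg.spGL m F ≤ S.Nm := by
  intro hle
  obtain ⟨x, -, hx0, hxQ⟩ := S.exists_singular (U := (⊤ : Submodule (ZMod 2) V))
    (by rw [finrank_top, S.dim]; omega)
  obtain ⟨y, hxy, hyQ⟩ := S.exists_partner hx0 hxQ
  obtain ⟨n, ⟨C⟩⟩ := S.exists_chart hxy hxQ hyQ
  have hk2 : 2 ≤ S.k := by omega
  have hmax := hIH n C.W (C.sub hxy hxQ hk2) (by show S.k - 1 + 1 = S.k; omega)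
  obtain ⟨a, ha, haN⟩ := SetLike.exists_of_lt hmax.1
  refine haN ((C.sub hxy hxQ hk2).mem_Nm_of ha fun z => ?_)
  have hg : C.χ (a, 1) ∈ S.Nm := hle (C.χ_mem_iff.2 ⟨ha, Subgroup.one_mem _⟩)
  have h := (Subgroup.mem_normalizer_iff.1 hg.1 _).1 (S.e_mem (z : V))
  rw [C.e₀_spec, ← map_inv, ← map_mul, ← map_mul] at h
  obtain ⟨d, hd, d', e⟩ := C.exists_blk_Rm hxy hxQ hk2 h
  rw [C.χ_val] at e
  simp only [Prod.inv_mk, Prod.mk_mul_mk] at e
  rcases e with e | e <;> obtain ⟨h1, -, -, -⟩ := C.blk_inj.1 e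
  · obtain ⟨w, hw⟩ := hd
    exact ⟨w, by rw [show a * (C.sub hxy hxQ hk2).e z * a⁻¹ = d from Units.ext h1]; exact hw⟩
  · haveI : Nonempty (Idx n) := ⟨Sum.inl ⟨0, C.card_pos⟩⟩
    exact absurd h1 (Units.ne_zero _)

/-- A fixer would give a space of maps that a minus form forbids. -/
theorem fixer_aux {Γ : Type*} [Group Γ] (hk : 2 ≤ S.k) (ι : V → Γ) (hιinj : Function.Injective ι)
    (hιadd : ∀ a b, ι (a + b) = ι a * ι b) (hιzero : ι 0 = 1) (H : Subgroup Γ)
    (hσ : ∀ g ∈ H, ∃ σ : V →ₗ[ZMod 2] V, (∀ x, g * ι x * g⁻¹ = ι (σ x)) ∧ ∀ x, S.Q (σ x) = S.Q x)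
    (hself : ∀ g ∈ H, (∀ x, g * ι x * g⁻¹ = ι x) → ∃ x, g = ι x) (W E : Subgroup Γ)
    (hWV : ∀ w ∈ W, ∃ x, w = ι x) (hEH : E ≤ H) (hW : W ≠ ⊥) (hEW : Nat.card E = Nat.card W)
    (hEV : ∀ e ∈ E, (∃ x, e = ι x) → e = 1) (hE2 : ∀ e ∈ E, e * e = 1)
    (hfix : ∀ e ∈ E, e ≠ 1 → ∀ x, (e * ι x = ι x * e ↔ ι x ∈ W)) : False := by
  classical
  choose σ hσ hσQ using fun e : E => hσ (e : Γ) (hEH e.2)
  have hσmul : ∀ (e f : E) (x : V), σ (e * f) x = σ e (σ f x) := fun e f x => hιinj (by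
    rw [← hσ, ← hσ, ← hσ, Subgroup.coe_mul]; group)
  have hσone : ∀ x, σ 1 x = x := fun x => hιinj (by
    rw [← hσ, Subgroup.coe_one, one_mul, inv_one, mul_one])
  let Ws : Submodule (ZMod 2) V :=
    { carrier := {a | ι a ∈ W}
      zero_mem' := show ι 0 ∈ W by rw [hιzero]; exact W.one_mem
      add_mem' := fun {a b} ha hb => show ι (a + b) ∈ W by rw [hιadd]; exact W.mul_mem ha hb
      smul_mem' := fun c a ha => by
        rcases bit c with rfl | rfl
        · show ι ((0 : ZMod 2) • a) ∈ W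
          rw [zero_smul, hιzero]; exact W.one_mem
        · show ι ((1 : ZMod 2) • a) ∈ W
          rw [one_smul]; exact ha }
  have hfixσ : ∀ (e : E), (e : Γ) ≠ 1 → ∀ x, σ e x = x ↔ x ∈ Ws := fun e he x => by
    show _ ↔ ι x ∈ W
    rw [← hfix e e.2 he x]
    constructor
    · intro h
      have := hσ e x
      rw [h, mul_inv_eq_iff_eq_mul] at this
      exact this
    · intro h
      refine hιinj ?_
      rw [← hσ, h, mul_inv_cancel_right]
  have hee : ∀ e : E, e * e = 1 := fun e => Subtype.ext (hE2 e e.2)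
  let T : E → (V →ₗ[ZMod 2] V) := fun e => σ e + LinearMap.id
  have hT : ∀ e x, T e x = σ e x + x := fun e x => rfl
  have hTW : ∀ e x, T e x ∈ Ws := fun e x => by
    by_cases he : (e : Γ) = 1
    · rw [show e = 1 from Subtype.ext he, hT, hσone, Quad.torsion]; exact Ws.zero_mem
    · refine (hfixσ e he _).1 ?_
      rw [hT, map_add, ← hσmul, hee, hσone, add_comm]
  have hfixW : ∀ (e : E) (w : V), w ∈ Ws → σ e w = w := fun e w hw => by
    by_cases he : (e : Γ) = 1
    · rw [show e = 1 from Subtype.ext he, hσone]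
    · exact (hfixσ e he w).2 hw
  have hTadd : ∀ e f, T (e * f) = T e + T f := fun e f => LinearMap.ext fun x => by
    show T (e * f) x = T e x + T f x
    rw [hT, hσmul]
    have h1 : σ f x = x + T f x := by rw [hT, add_comm (σ f x), Quad.add_cancel']
    rw [h1, map_add, hfixW e _ (hTW f x), hT e x]
    abel
  have hT1 : T 1 = 0 := LinearMap.ext fun x => by rw [hT, hσone, Quad.torsion]; rfl
  have hinj : Function.Injective T := by
    intro e f h
    have h0 : T (e * f) = 0 := by rw [hTadd, h, ← hTadd, hee, hT1]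
    have hef : ((e * f : E) : Γ) = 1 := by
      refine hEV _ (e * f).2 (hself _ (hEH (e * f).2) fun x => ?_)
      rw [hσ, Quad.eq_of_add_eq_zero (show σ (e * f) x + x = 0 by rw [← hT, h0]; rfl)]
    have h4 : e * f = 1 := Subtype.ext hef
    calc e = e * (f * f) := by rw [hee, mul_one]
      _ = f := by rw [← mul_assoc, h4, one_mul]
  let Es : Submodule (ZMod 2) (V →ₗ[ZMod 2] V) :=
    { carrier := Set.range T
      zero_mem' := ⟨1, hT1⟩
      add_mem' := by rintro _ _ ⟨e, rfl⟩ ⟨f, rfl⟩; exact ⟨e * f, hTadd e f⟩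
      smul_mem' := by
        rintro c _ ⟨e, rfl⟩
        rcases bit c with rfl | rfl
        · exact ⟨1, by rw [hT1, zero_smul]⟩
        · exact ⟨e, by rw [one_smul]⟩ }
  have hEs : Nat.card Es = Nat.card E := Nat.card_range_of_injective hinj
  have hWc : Nat.card Ws = Nat.card W := Nat.card_congr (Equiv.ofBijective
    (fun a : Ws => (⟨ι a.1, a.2⟩ : W)) ⟨fun a b h => Subtype.ext (hιinj (congrArg Subtype.val h)), fun w => by
      obtain ⟨x, hx⟩ := hWV _ w.2
      exact ⟨⟨x, show ι x ∈ W from hx ▸ w.2⟩, Subtype.ext hx.symm⟩⟩)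
  have hdim : finrank (ZMod 2) Es = finrank (ZMod 2) Ws := by
    refine Nat.pow_right_injective (le_refl 2) ?_
    have h1 := Module.natCard_eq_pow_finrank (K := ZMod 2) (V := Es)
    have h2 := Module.natCard_eq_pow_finrank (K := ZMod 2) (V := Ws)
    rw [Nat.card_zmod, hEs, hEW, ← hWc, h2, Nat.card_zmod] at h1
    exact h1.symm
  have hWs : Ws ≠ ⊥ := by
    obtain ⟨w, hw⟩ := Subgroup.ne_bot_iff_exists_ne_one.1 hW
    obtain ⟨x, hx⟩ := hWV _ w.2
    intro e
    have hxW : x ∈ Ws := show ι x ∈ W from hx ▸ w.2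
    rw [e, Submodule.mem_bot] at hxW
    exact hw (Subtype.ext (by rw [hx, hxW, hιzero]; rfl))
  refine S.toQuad.no_fixer hk Ws hWs Es hdim ?_ ?_ ?_
  · rintro _ ⟨e, rfl⟩ hne
    refine Submodule.ext fun x => ?_
    rw [LinearMap.mem_ker, ← hfixσ e (fun h => hne (by rw [show e = 1 from Subtype.ext h, hT1])) x, hT]
    exact ⟨fun h => Quad.eq_of_add_eq_zero h, fun h => by rw [h, Quad.torsion]⟩
  · rintro _ ⟨e, rfl⟩ x
    rw [hT e (T e x), hfixW e _ (hTW e x), Quad.torsion]
  · rintro _ ⟨e, rfl⟩ x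
    rw [hT, add_comm (σ e x), Quad.add_cancel']
    exact hσQ e x

/-- Involutions and elements of square minus one have centralisers inside, so nothing lies strictly between. -/
theorem eq_of_cent (hk : 4 ≤ S.k) {M : Subgroup (GL (Idx m) F)} (hM : S.Nm ≤ M) (hsp : M ≤ Cfsg.spGL m F)
    (hC : S.CentOne M) : M = S.Nm := by
  classical
  have hcent : ∀ x, x ≠ 0 → ∀ g ∈ M, Pm (g * S.e x * g⁻¹) (S.e x) → g ∈ S.Nm := by
    intro x hx g hg h
    rcases bit (S.Q x) with hQ | hQ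
    · exact hC x hx hQ g hg h
    · exact S.centU hQ hM hsp hC hk hg h
  have hnegM : (-1 : GL (Idx m) F) ∈ M := hM S.neg_one_mem_Nm
  let N : Subgroup M := Subgroup.zpowers ⟨-1, hnegM⟩
  haveI : N.Normal := ⟨fun n hn g => by
    obtain ⟨j, rfl⟩ := hn
    have hc : Commute g (⟨-1, hnegM⟩ : M) := Subtype.ext (show (g : GL (Idx m) F) * -1 = -1 * g by simp)
    show g * (⟨-1, hnegM⟩ : M) ^ j * g⁻¹ ∈ N
    rw [(hc.zpow_right j).eq, mul_inv_cancel_right]
    exact Subgroup.zpow_mem _ (Subgroup.mem_zpowers _) j⟩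
  have hN : ∀ n : M, n ∈ N ↔ Pm (n : GL (Idx m) F) 1 := by
    intro n
    constructor
    · rintro ⟨j, rfl⟩
      show Pm ((⟨-1, hnegM⟩ : M) ^ j : M).1 1
      rw [Subgroup.coe_zpow]
      rcases Int.even_or_odd j with ⟨l, rfl⟩ | ⟨l, rfl⟩
      · left; rw [_root_.zpow_add, ← (Commute.refl _).mul_zpow]; simp
      · right; rw [_root_.zpow_add_one, two_mul, _root_.zpow_add, ← (Commute.refl _).mul_zpow]; simp
    · rintro (h | h)
      · rw [show n = 1 from Subtype.ext h]; exact N.one_mem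
      · rw [show n = ⟨-1, hnegM⟩ from Subtype.ext h]; exact Subgroup.mem_zpowers _
  set π := QuotientGroup.mk' N with hπdef
  haveI : Finite (M ⧸ N) := Quotient.finite _
  have hπ : ∀ a b : M, π a = π b ↔ Pm (a : GL (Idx m) F) b := by
    intro a b
    rw [QuotientGroup.mk'_eq_mk']
    constructor
    · rintro ⟨z, hz, rfl⟩
      have := (Pm.refl (a : GL (Idx m) F)).mul ((hN z).1 hz)
      rw [mul_one, ← Subgroup.coe_mul] at this
      exact this.symm
    · intro h
      refine ⟨a⁻¹ * b, (hN _).2 ?_, mul_inv_cancel_left a b⟩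
      have := (Pm.refl (a : GL (Idx m) F)⁻¹).mul h.symm
      rwa [inv_mul_cancel] at this
  have hsurj : ∀ g : M ⧸ N, ∃ a : M, π a = g := QuotientGroup.mk'_surjective N
  let ι : V → M ⧸ N := fun x => π ⟨S.e x, hM (S.e_mem_Nm x)⟩
  let Hb := (S.Nm.subgroupOf M).map π
  let W₀ := (S.Rm.subgroupOf M).map π
  have hHb : ∀ g : M, π g ∈ Hb ↔ (g : GL (Idx m) F) ∈ S.Nm := fun g => by
    refine ⟨fun ⟨h, hh, he⟩ => ?_, fun h => ⟨g, h, rfl⟩⟩
    exact (mem_iff_of_pm S.neg_one_mem_Nm ((hπ h g).1 he)).1 hh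
  have hW₀ : ∀ g, g ∈ W₀ ↔ ∃ x, g = ι x := by
    intro g
    constructor
    · rintro ⟨a, ⟨x, hx⟩, rfl⟩
      exact ⟨x, (hπ _ _).2 hx⟩
    · rintro ⟨x, rfl⟩
      exact ⟨⟨S.e x, hM (S.e_mem_Nm x)⟩, S.e_mem x, rfl⟩
  have hιinj : Function.Injective ι := fun a b h => S.eq_of_pm ((hπ _ _).1 h)
  have hιadd : ∀ a b, ι (a + b) = ι a * ι b := fun a b => by
    show π _ = π _ * π _
    rw [← map_mul, hπ]
    exact (S.e_add a b).symm
  have hιzero : ι 0 = 1 := by
    show π _ = 1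
    rw [← map_one π, hπ]
    exact Or.inl S.e_zero
  have hιinv : ∀ a, ι a * ι a = 1 := fun a => by rw [← hιadd, Quad.torsion, hιzero]
  -- the action of the normaliser
  have hact : ∀ (h : M), (h : GL (Idx m) F) ∈ S.Nm → ∀ x, π h * ι x * (π h)⁻¹ = ι (S.perm (h : GL (Idx m) F) x) := by
    intro h hh x
    show π h * π _ * (π h)⁻¹ = π _
    rw [← map_inv, ← map_mul, ← map_mul, hπ]
    exact S.perm_spec hh x
  have hselfι : ∀ g ∈ Hb, (∀ x, g * ι x * g⁻¹ = ι x) → ∃ x, g = ι x := by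
    intro g hg hfix
    obtain ⟨a, rfl⟩ := hsurj g
    have ha := (hHb a).1 hg
    obtain ⟨y, hy⟩ := S.mem_Rm_of_fix (S.Nm_le ha) fun x => by
      have h1 := (hact a ha x).symm.trans (hfix x)
      have h2 := S.perm_spec ha x
      rwa [hιinj h1] at h2
    exact ⟨y, (hπ _ _).2 hy⟩
  have hctrl : SpEight.Control Hb W₀ :=
    { le := Subgroup.map_mono fun x hx => S.Rm_le_Nm hx
      normal := by
        rintro _ ⟨h, hh, rfl⟩ g hg
        obtain ⟨x, rfl⟩ := (hW₀ g).1 hg
        exact (hW₀ _).2 ⟨_, hact h hh x⟩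
      invol := fun g hg => by
        obtain ⟨x, rfl⟩ := (hW₀ g).1 hg
        exact hιinv x
      self := fun g hg hcv => (hW₀ g).2 (hselfι g hg fun x => by
        rw [hcv _ ((hW₀ _).2 ⟨x, rfl⟩), mul_inv_cancel_right])
      cent := by
        intro g hg hg1 a hag
        obtain ⟨x, rfl⟩ := (hW₀ g).1 hg
        obtain ⟨a, rfl⟩ := hsurj a
        rw [hHb]
        refine hcent x (fun e => hg1 (by rw [e, hιzero])) _ a.2 ?_
        change π a * π ⟨S.e x, _⟩ = π ⟨S.e x, _⟩ * π a at hag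
        rw [← map_mul, ← map_mul, hπ] at hag
        have := hag.mul (Pm.refl (a : GL (Idx m) F)⁻¹)
        simpa [mul_assoc] using this
      fused := by
        intro g hg hg1 a ha
        obtain ⟨x, rfl⟩ := (hW₀ g).1 hg
        obtain ⟨a, rfl⟩ := hsurj a
        obtain ⟨y, hy⟩ := (hW₀ _).1 ha
        have hx0 : x ≠ 0 := fun e => hg1 (by rw [e, hιzero])
        have hy0 : y ≠ 0 := fun e => hg1 (by
          rw [e, hιzero, mul_inv_eq_iff_eq_mul, one_mul] at hy
          exact mul_eq_left.1 hy)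
        have hQ : S.Q x = S.Q y := by
          refine S.Q_eq_of_conj (g := (a : GL (Idx m) F)) ?_
          have hy' := hy
          change π a * π _ * (π a)⁻¹ = π _ at hy'
          rw [← map_inv, ← map_mul, ← map_mul, hπ] at hy'
          exact hy'
        obtain ⟨h, hh, e⟩ := S.move (by omega) hx0 hy0 hQ
        refine ⟨π ⟨h, hM hh⟩, (hHb _).2 hh, ?_⟩
        rw [hact ⟨h, hM hh⟩ hh x, hy]
        exact congrArg ι e
      fixer := fun W E hWV hEH hW hEW hEV hE2 _ hfix =>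
        S.fixer_aux (by omega) ι hιinj hιadd hιzero Hb
          (fun g hg => by
            obtain ⟨a, rfl⟩ := hsurj g
            exact ⟨S.lin ((hHb a).1 hg), fun x => hact a ((hHb a).1 hg) x, fun x => S.Q_perm ((hHb a).1 hg) x⟩)
          hselfι W E (fun w hw => (hW₀ w).1 (hWV hw)) hEH hW hEW (fun e he h => hEV e he ((hW₀ e).2 h)) hE2
          (fun e he h1 x => hfix e he h1 (ι x) ((hW₀ _).2 ⟨x, rfl⟩)) }
  obtain ⟨x, -, hx0, hxQ⟩ := S.exists_singular (U := (⊤ : Submodule (ZMod 2) V))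
    (by rw [finrank_top, S.dim]; omega)
  obtain ⟨z, -, hzQ⟩ := S.exists_nonsing (U := (⊤ : Submodule (ZMod 2) V)) (by rw [finrank_top, S.dim]; omega)
  have htop := hctrl.eq_top ((hW₀ _).2 ⟨x, rfl⟩) (fun e => hx0 (hιinj (e.trans hιzero.symm)))
    ((hW₀ _).2 ⟨z, rfl⟩) (fun e => S.ne_zero_of_Q hzQ (hιinj (e.trans hιzero.symm))) (by
    intro g hg
    obtain ⟨a, rfl⟩ := hsurj g
    change π a * π _ * (π a)⁻¹ = π _ at hg
    rw [← map_inv, ← map_mul, ← map_mul, hπ] at hg
    have := S.Q_eq_of_conj (g := (a : GL (Idx m) F)) hg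
    rw [hxQ, hzQ] at this
    exact zero_ne_one this)
  exact le_antisymm (fun g hg => (hHb ⟨g, hg⟩).1 (by rw [htop]; trivial)) hM

theorem step (hIH : S.HalfMax) (hk : 4 ≤ S.k) : Cfsg.Geo.IsMaximalIn (Cfsg.spGL m F) S.Nm := by
  refine ⟨lt_of_le_not_ge S.Nm_le (S.proper_of_half hIH hk), fun M hM hsp => ?_⟩
  by_cases hfull : Cfsg.spGL m F ≤ M
  · exact Or.inr (le_antisymm hsp hfull)
  have hO : Over S M := ⟨hM, hsp, hfull⟩
  exact Or.inl (S.eq_of_cent hk hM hsp (hO.centOne hIH hk))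

end Sys

section base

variable [Fintype F]

open Cfsg.Geo in
/-- The dimension eight case. -/
theorem base {p : ℕ} (hp : p.Prime) (hcard : Fintype.card F = p) (S : Sys 4 F V) (hk : S.k = 3) :
    IsMaximalIn (Cfsg.spGL 4 F) S.Nm := by
  classical
  have hVc : Nat.card V = 2 ^ 6 := by
    rw [Module.natCard_eq_pow_finrank (K := ZMod 2), Nat.card_zmod, S.dim, hk]
  have hRc : Nat.card S.Rm = 128 := by
    let f : V × ZMod 2 → S.Rm := fun x => ⟨sg x.2 * S.e x.1, x.1, Pm.of_sg rfl⟩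
    have hf : Function.Bijective f := by
      refine ⟨fun a b h => ?_, fun ⟨g, x, hx⟩ => ?_⟩
      · have h' : sg a.2 * S.e a.1 = sg b.2 * S.e b.1 := congrArg Subtype.val h
        have h1 : a.1 = b.1 := S.eq_of_pm
          ((Pm.of_sg (a := sg a.2 * S.e a.1) rfl).symm.trans (Pm.of_sg (β := b.2) h'))
        rw [h1] at h'
        exact Prod.ext h1 (S.sg_inj (mul_right_cancel h'))
      · rcases hx with rfl | rfl
        · exact ⟨(x, 0), Subtype.ext (by simp [f])⟩
        · exact ⟨(x, 1), Subtype.ext (by simp [f])⟩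
    rw [← Nat.card_eq_of_bijective f hf, Nat.card_prod, hVc, Nat.card_zmod]
    norm_num
  have hminus : IsOfMinusType 3 S.Rm := by
    intro A _ hA2
    let U : Submodule (ZMod 2) V :=
      { carrier := {x | ∃ a ∈ A, Pm (a : GL (Idx 4) F) (S.e x)}
        zero_mem' := ⟨1, A.one_mem, Or.inl S.e_zero.symm⟩
        add_mem' := by
          rintro x y ⟨a, ha, hax⟩ ⟨b, hb, hby⟩
          exact ⟨a * b, A.mul_mem ha hb, (hax.mul hby).trans (S.e_add x y)⟩
        smul_mem' := by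
          rintro c x hx
          rcases bit c with rfl | rfl
          · rw [zero_smul]; exact ⟨1, A.one_mem, Or.inl S.e_zero.symm⟩
          · rwa [one_smul] }
    have hU : finrank (ZMod 2) U < 3 := hk ▸ S.minus U (by
      rintro x ⟨a, ha, hax⟩
      refine S.sg_inj ?_
      have h := congrArg Subtype.val (hA2 a ha)
      simp only [Subgroup.coe_mul, Subgroup.coe_one] at h
      rw [← S.e_sq, sg_zero, ← h]
      rcases hax with e | e <;> rw [e] <;> simp)
    have hgx : ∀ a : A, ∃ x ∈ U, ∃ b : ZMod 2, ((a : S.Rm) : GL (Idx 4) F) = sg b * S.e x := fun a => by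
      obtain ⟨x, hx⟩ := (a : S.Rm).2
      refine ⟨x, ⟨a, a.2, hx⟩, ?_⟩
      rcases hx with e | e
      · exact ⟨0, by simp [e]⟩
      · exact ⟨1, by simp [e]⟩
    choose fx hfx fb hfb using hgx
    have hinj : Function.Injective fun a : A => ((⟨fx a, hfx a⟩ : U), fb a) := fun a b h => by
      simp only [Prod.mk.injEq, Subtype.mk.injEq] at h
      refine Subtype.ext (Subtype.ext ?_)
      rw [hfb a, hfb b, h.1, h.2]
    have hle := Nat.card_le_card_of_injective _ hinj
    rw [Nat.card_prod, Module.natCard_eq_pow_finrank (K := ZMod 2) (V := U), Nat.card_zmod] at hle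
    have h2 : (2 : ℕ) ^ finrank (ZMod 2) U ≤ 2 ^ 2 := Nat.pow_le_pow_right (by norm_num) (by omega)
    norm_num at hle h2 ⊢
    omega
  have hB : SpEight.Big S.Rm := by
    refine ⟨S.two, S.Rm_le, fun A hA => S.commutant A fun x => hA _ (S.e_mem x), S.neg_one_mem, ?_, ?_, hRc, hminus⟩
    · rintro _ ⟨x, hx⟩ _ ⟨y, hy⟩
      have h := Pm.of_sg (S.e_comm x y)
      rcases ((hx.mul hy).trans h).trans (hy.mul hx).symm with e | e
      exacts [Or.inl e, Or.inr e]
    · rintro _ ⟨x, hx⟩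
      rcases ((hx.mul hx).trans (Pm.of_sg (β := S.Q x) (b := 1) (by rw [S.e_sq, mul_one]))) with e | e
      exacts [Or.inl e, Or.inr e]
  obtain ⟨P, hP, R4, hS, hle4, hR⟩ := SpEight.exists_dbl hB
  have hc' : Nat.card (SpEight.dbl hS) = 128 := by
    rw [← hR, Subgroup.card_map_of_injective (MulAut.conj P⁻¹).injective, hRc]
  have hm' : IsOfMinusType 3 (SpEight.dbl hS) := by
    intro A hA hA2
    let e : S.Rm ≃* SpEight.dbl hS :=
      (S.Rm.equivMapOfInjective (MulAut.conj P⁻¹).toMonoidHom (MulAut.conj P⁻¹).injective).trans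
        (MulEquiv.subgroupCongr hR)
    have := hminus (A.map e.symm.toMonoidHom) inferInstance (by
      rintro _ ⟨x, hx, rfl⟩; rw [← map_mul, hA2 x hx, map_one])
    rwa [Subgroup.card_map_of_injective e.symm.injective] at this
  have hmax := SpEight.nm_maximal hp hcard hS hle4 hc' hm'
  have hnorm : Subgroup.normalizer (S.Rm : Set (GL (Idx 4) F)) =
      (Subgroup.normalizer (SpEight.dbl hS : Set (GL (Idx 4) F))).map (MulAut.conj P).toMonoidHom := by
    have hrm : (SpEight.dbl hS).map (MulAut.conj P).toMonoidHom = S.Rm := by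
      rw [← hR, Subgroup.map_map]
      convert Subgroup.map_id S.Rm
      ext x
      simp [mul_assoc]
    rw [Subgroup.map_equiv_normalizer_eq, hrm]
  show IsMaximalIn (Cfsg.spGL 4 F) (Subgroup.normalizer (S.Rm : Set (GL (Idx 4) F)) ⊓ Cfsg.spGL 4 F)
  rw [hnorm]
  refine CfsgLib.Geo.isMaximalIn_conj P ?_ hmax
  ext x
  constructor
  · rintro ⟨y, hy, rfl⟩
    exact Subgroup.mul_mem _ (Subgroup.mul_mem _ hP hy) (Subgroup.inv_mem _ hP)
  · intro hx
    exact ⟨P⁻¹ * x * P, Subgroup.mul_mem _ (Subgroup.mul_mem _ (Subgroup.inv_mem _ hP) hx) hP, by simp [mul_assoc]⟩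

theorem maximal {p : ℕ} (hp : p.Prime) (hcard : Fintype.card F = p) :
    ∀ (k : ℕ) (m : ℕ) (V : Type v) [AddCommGroup V] [Module (ZMod 2) V] [Fintype V] (S : Sys m F V),
      S.k = k → 3 ≤ k → Cfsg.Geo.IsMaximalIn (Cfsg.spGL m F) S.Nm := by
  intro k
  induction k with
  | zero => intros; omega
  | succ k ih =>
    intro m V _ _ _ S hS hk
    by_cases h3 : k = 2
    · subst h3
      obtain rfl : m = 4 := by
        have h := S.two_m
        rw [hS] at h
        norm_num at h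
        omega
      exact base hp hcard S hS
    · refine S.step (fun n W _ S' hS' => ih n W S' (by omega) (by omega)) (by omega)

end base

end CfsgLib.Geo.PauliSp
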