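import Cfsg.Agent.Geo.PauliSp.One

/-!
Inside the centraliser of an element of square minus one: weak closure of the involutions of the system.
-/

set_option autoImplicit false
set_option linter.unusedSectionVars false
set_option linter.unusedSimpArgs false
set_option linter.style.haveILetI false

namespace CfsgLib.Geo.PauliSp

open Matrix Module
open CfsgLib.Geo.PauliEight (sgn sgn_zero sgn_one cj cj_of_comm cj_eq_of_mul)

variable {m : ℕ} {F : Type*} [Field F] {V : Type*} [AddCommGroup V] [Module (ZMod 2) V] [Fintype V]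

theorem commute_inv_val {g h : GL (Idx m) F} (e : g * h = h * g) :
    ((g : Mx m F)) * (h : Mx m F) = (h : Mx m F) * g := by
  rw [← Units.val_mul, ← Units.val_mul, e]

namespace Sys

variable (S : Sys m F V)

/-- The centraliser of the element attached to `u` in a group. -/
def Lu (u : V) (M : Subgroup (GL (Idx m) F)) : Subgroup (GL (Idx m) F) := M ⊓ Subgroup.centralizer {S.e u}

theorem mem_Lu {u : V} {M : Subgroup (GL (Idx m) F)} {g : GL (Idx m) F} :
    g ∈ S.Lu u M ↔ g ∈ M ∧ g * S.e u = S.e u * g := by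
  rw [Lu, Subgroup.mem_inf, Subgroup.mem_centralizer_singleton_iff]

/-- The isometries commuting with the monomials orthogonal to `u`. -/
def Ku (u : V) : Subgroup (GL (Idx m) F) :=
  Cfsg.spGL m F ⊓ Subgroup.centralizer (S.e '' {z | S.B u z = 0})

theorem mem_Ku {u : V} {g : GL (Idx m) F} :
    g ∈ S.Ku u ↔ g ∈ Cfsg.spGL m F ∧ ∀ z, S.B u z = 0 → g * S.e z = S.e z * g := by
  rw [Ku, Subgroup.mem_inf, Subgroup.mem_centralizer_iff]
  refine and_congr_right fun _ => ⟨fun h z hz => (h _ ⟨z, hz, rfl⟩).symm, ?_⟩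
  rintro h _ ⟨z, hz, rfl⟩
  exact (h z hz).symm

theorem e_mem_Ku {u : V} : S.e u ∈ S.Ku u :=
  S.mem_Ku.2 ⟨S.mem u, fun _ hz => S.e_comm' hz⟩

variable {u : V} (hu : S.Q u = 1)
include hu

theorem Ku_comm {l : GL (Idx m) F} (hl : l ∈ S.Ku u) {g : GL (Idx m) F} (hg : g * S.e u = S.e u * g) :
    g * l = l * g := by
  obtain ⟨hl1, hl2⟩ := S.mem_Ku.1 hl
  obtain ⟨p, q, e⟩ := S.eq_pq hu (A := (l : Mx m F)) fun z hz => commute_inv_val (hl2 z hz)
  refine Units.ext ?_
  rw [Units.val_mul, Units.val_mul, e, mul_add, add_mul, mul_smul_comm, smul_mul_assoc, mul_one, one_mul,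
    mul_smul_comm, smul_mul_assoc]
  exact congrArg _ (congrArg (q • ·) (commute_inv_val hg))

theorem pm_one_of_sq {l : GL (Idx m) F} (hl : l ∈ S.Ku u) (h2 : l * l = 1) : Pm l 1 := by
  obtain ⟨hl1, hl2⟩ := S.mem_Ku.1 hl
  obtain ⟨p, q, e⟩ := S.eq_pq hu (A := (l : Mx m F)) fun z hz => commute_inv_val (hl2 z hz)
  obtain ⟨r, hr⟩ := S.mem_Rm_of_pq hu (map_zero _) hl1 (p := p) (q := q) (by rw [e, S.E_zero, mul_one]) (Or.inl h2)
  have hQr : S.Q r = 0 := by
    refine S.sg_inj ?_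
    rw [← S.e_sq, sg_zero, ← h2]
    rcases hr with rfl | rfl <;> simp
  rcases S.eq_of_perp_all (u := u) (x := r) (fun z hz => by
    by_contra hne
    have h1 := S.e_conj z r
    rw [bit_ne_zero hne, sg_one, neg_one_mul] at h1
    have h3 : S.e z * l * (S.e z)⁻¹ = l := by rw [← hl2 z hz, mul_inv_cancel_right]
    rcases hr with rfl | rfl
    · rw [h1] at h3; exact S.neg_ne _ h3.symm
    · rw [mul_neg, neg_mul, h1, neg_neg] at h3; exact S.neg_ne _ h3) with h0 | h0
  · rwa [h0, S.e_zero] at hr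
  · rw [h0, hu] at hQr; exact absurd hQr one_ne_zero

theorem shape_of_fix {h : GL (Idx m) F} (hh : h ∈ Cfsg.spGL m F) (hcu : h * S.e u = S.e u * h)
    (hfix : ∀ z, S.B u z = 0 → Pm (h * S.e z * h⁻¹) (S.e z)) :
    ∃ r, S.B u r = 0 ∧ h * (S.e r)⁻¹ ∈ S.Ku u := by
  haveI : Nonempty (Idx m) := ⟨Sum.inl ⟨0, S.pos⟩⟩
  obtain ⟨r, p, q, hr, e⟩ := S.eq_pq_mul hu (A := (h : Mx m F)) h.ne_zero (commute_inv_val hcu) fun z hz => by
    rcases hfix z hz with e | e <;> rw [mul_inv_eq_iff_eq_mul] at e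
    · exact ⟨1, by rw [one_smul]; exact cj_of_comm (commute_inv_val e.symm)⟩
    · refine ⟨-1, cj_eq_of_mul ?_⟩
      rw [← Units.val_mul, smul_mul_assoc, ← Units.val_mul, e]
      simp
  refine ⟨r, hr, S.mem_Ku.2 ⟨(Cfsg.spGL m F).mul_mem hh ((Cfsg.spGL m F).inv_mem (S.mem r)), fun z hz => ?_⟩⟩
  refine Units.ext ?_
  simp only [Units.val_mul]
  rw [e, mul_assoc _ (S.E r), Units.mul_inv, mul_one]
  show (p • 1 + q • S.E u) * S.E z = S.E z * (p • 1 + q • S.E u)
  simp only [mul_add, add_mul, mul_smul_comm, smul_mul_assoc, mul_one, one_mul]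
  rw [S.E_comm u z, hz, sgn_zero, one_smul]

theorem fix_of_shape {h : GL (Idx m) F} {r : V} (hshape : h * (S.e r)⁻¹ ∈ S.Ku u) {z : V} (hz : S.B u z = 0) :
    Pm (h * S.e z * h⁻¹) (S.e z) := by
  set l := h * (S.e r)⁻¹ with hl
  have hh : h = l * S.e r := by rw [hl, inv_mul_cancel_right]
  rw [hh, show l * S.e r * S.e z * (l * S.e r)⁻¹ = l * (S.e r * S.e z * (S.e r)⁻¹) * l⁻¹ by group]
  refine ((Pm.of_sg (S.e_conj r z)).conj l).trans (Or.inl ?_)
  rw [(S.mem_Ku.1 hshape).2 z hz, mul_inv_cancel_right]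

theorem rm_of_fix {h : GL (Idx m) F} (hh : h ∈ Cfsg.spGL m F) (hcu : h * S.e u = S.e u * h) (hsq : Pm (h * h) 1)
    (hfix : ∀ z, S.B u z = 0 → Pm (h * S.e z * h⁻¹) (S.e z)) : h ∈ S.Rm := by
  obtain ⟨r, hr, hl⟩ := S.shape_of_fix hu hh hcu hfix
  obtain ⟨hl1, hl2⟩ := S.mem_Ku.1 hl
  obtain ⟨p, q, e⟩ := S.eq_pq hu (A := ((h * (S.e r)⁻¹ : GL (Idx m) F) : Mx m F)) fun z hz => commute_inv_val (hl2 z hz)
  refine S.mem_Rm_of_pq hu hr hh (p := p) (q := q) ?_ hsq
  rw [← e, Units.val_mul, mul_assoc, Units.inv_mul, mul_one]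

variable {M : Subgroup (GL (Idx m) F)} (hM : S.Nm ≤ M) (hsp : M ≤ Cfsg.spGL m F) (hC : S.CentOne M) (hk : 4 ≤ S.k)
variable [Finite F]

include hC hk in
theorem Ku_mem_Nm {l : GL (Idx m) F} (hl : l ∈ S.Ku u) (hlM : l ∈ M) : l ∈ S.Nm := by
  obtain ⟨a, ha, ha0, haQ⟩ := S.exists_singular (U := S.perp (Submodule.span (ZMod 2) {u})) (by
    have h1 := S.finrank_perp (Submodule.span (ZMod 2) {u})
    rw [finrank_span_singleton (S.ne_zero_of_Q hu)] at h1
    omega)
  refine hC a ha0 haQ l hlM (Or.inl ?_)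
  rw [(S.mem_Ku.1 hl).2 a (S.mem_perp_span.1 ha u rfl), mul_inv_cancel_right]

omit hu in
include hM hC hk in
/-- An element carrying an involution of the system to one normalises. -/
theorem mem_Nm_of_conj {g : GL (Idx m) F} (hg : g ∈ M) {x : V} (hx : x ≠ 0) (hQ : S.Q x = 0)
    (h : g * S.e x * g⁻¹ ∈ S.Rm) : g ∈ S.Nm := by
  obtain ⟨y, hy⟩ := h
  have hQy : S.Q y = 0 := (S.Q_eq_of_conj hy).symm.trans hQ
  have hy0 : y ≠ 0 := fun e => by
    refine hx (S.eq_zero_of_pm_one ?_)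
    rw [e, S.e_zero] at hy
    have h1 := hy.conj g⁻¹
    simpa [mul_assoc] using h1
  obtain ⟨h, hh, he⟩ := S.move_exact (by omega) hx hy0 (hQ.trans hQy.symm)
  have hc : h⁻¹ * g ∈ S.Nm := by
    refine hC x hx hQ _ (M.mul_mem (M.inv_mem (hM hh)) hg) ?_
    have h2 := hy.conj h⁻¹
    rw [← he] at h2
    simpa [mul_assoc] using h2
  have := S.Nm.mul_mem hh hc
  rwa [mul_inv_cancel_left] at this

include hM hC hk in
/-- Weak closure: an element carrying an involution of the system into the normaliser normalises. -/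
theorem close {g : GL (Idx m) F} (hg : g ∈ S.Lu u M) {a : V} (hau : S.B u a = 0) (ha : a ≠ 0) (haQ : S.Q a = 0)
    (hU : g * S.e a * g⁻¹ ∈ S.Nm) : g ∈ S.Nm := by
  obtain ⟨hgM, hgu⟩ := S.mem_Lu.1 hg
  obtain ⟨U, hUdef⟩ : ∃ U, U = g * S.e a * g⁻¹ := ⟨_, rfl⟩
  rw [← hUdef] at hU
  have hUu : U * S.e u = S.e u * U := by
    have h1 : g⁻¹ * S.e u = S.e u * g⁻¹ := by
      calc g⁻¹ * S.e u = g⁻¹ * (S.e u * g) * g⁻¹ := by group
        _ = S.e u * g⁻¹ := by rw [← hgu]; group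
    rw [hUdef, mul_assoc, h1, ← mul_assoc, mul_assoc g (S.e a), ← S.e_comm' hau, ← mul_assoc, hgu]
    simp only [mul_assoc]
  have hUU : U * U = 1 := by
    rw [hUdef, show g * S.e a * g⁻¹ * (g * S.e a * g⁻¹) = g * (S.e a * S.e a) * g⁻¹ by group, S.e_sq, haQ, sg_zero,
      mul_one, mul_inv_cancel]
  have hπu : S.perm U u = u := S.perm_eq (Or.inl (by rw [hUu, mul_inv_cancel_right]))
  have hππ : ∀ v, S.perm U (S.perm U v) = v := fun v => by rw [← S.perm_mul hU hU, hUU, S.perm_one]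
  -- a singular vector orthogonal to `u` fixed exactly
  obtain ⟨c, hcu, hc0, hcQ, hcU⟩ : ∃ c, S.B u c = 0 ∧ c ≠ 0 ∧ S.Q c = 0 ∧ U * S.e c = S.e c * U := by
    let D := S.perp (Submodule.span (ZMod 2) {u})
    let L : D →ₗ[ZMod 2] V := (S.lin hU + LinearMap.id).comp D.subtype
    have hLr : LinearMap.range L ≤ (LinearMap.ker L).map D.subtype := by
      rintro _ ⟨⟨v, hv⟩, rfl⟩
      have hv' : S.B u v = 0 := S.mem_perp_span.1 hv u rfl
      have hmem : S.perm U v + v ∈ D := S.mem_perp_span.2 fun w hw => by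
        rw [Set.mem_singleton_iff.1 hw, S.B_add', ← hπu, S.B_perm hU, hπu, hv', add_zero]
      refine ⟨⟨_, hmem⟩, LinearMap.mem_ker.2 ?_, rfl⟩
      show S.perm U (S.perm U v + v) + (S.perm U v + v) = 0
      rw [S.perm_add hU, hππ, add_comm (S.perm U v) v, Quad.torsion]
    have h1 := L.finrank_range_add_finrank_ker
    have h2 := Submodule.finrank_mono hLr
    have h3 : finrank (ZMod 2) D + finrank (ZMod 2) (Submodule.span (ZMod 2) {u}) = 2 * S.k :=
      S.finrank_perp (Submodule.span (ZMod 2) {u})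
    set K := (LinearMap.ker L).map D.subtype with hK
    have h4 : finrank (ZMod 2) (LinearMap.ker L) = finrank (ZMod 2) K :=
      (Submodule.equivMapOfInjective _ D.injective_subtype (LinearMap.ker L)).finrank_eq
    rw [finrank_span_singleton (S.ne_zero_of_Q hu)] at h3
    have hKmem : ∀ v ∈ K, S.B u v = 0 ∧ Pm (U * S.e v * U⁻¹) (S.e v) := by
      rintro _ ⟨⟨v, hv⟩, hv', rfl⟩
      refine ⟨S.mem_perp_span.1 hv u rfl, ?_⟩
      have h5 : S.perm U v = v := Quad.eq_of_add_eq_zero (LinearMap.mem_ker.1 hv')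
      have h6 := S.perm_spec hU v
      rwa [h5] at h6
    obtain ⟨x₁, hx₁, hx₁n⟩ : ∃ v ∈ K, v ∉ Submodule.span (ZMod 2) {u} := by
      by_contra h
      push Not at h
      have := Submodule.finrank_mono (h : K ≤ _)
      rw [finrank_span_singleton (S.ne_zero_of_Q hu)] at this
      omega
    obtain ⟨x₂, hx₂, hx₂n⟩ : ∃ v ∈ K, v ∉ Submodule.span (ZMod 2) ({u, x₁} : Set V) := by
      by_contra h
      push Not at h
      have := Submodule.finrank_mono (h : K ≤ _)
      have := Quad.finrank_span_le_two u x₁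
      omega
    obtain ⟨x, hxK, hxn, hxU⟩ : ∃ v ∈ K, v ∉ Submodule.span (ZMod 2) {u} ∧ U * S.e v = S.e v * U := by
      rcases (hKmem x₁ hx₁).2 with e₁ | e₁ <;> rw [mul_inv_eq_iff_eq_mul] at e₁
      · exact ⟨x₁, hx₁, hx₁n, e₁⟩
      rcases (hKmem x₂ hx₂).2 with e₂ | e₂ <;> rw [mul_inv_eq_iff_eq_mul] at e₂
      · exact ⟨x₂, hx₂, fun h => hx₂n (Submodule.span_mono (by simp) h), e₂⟩
      refine ⟨x₁ + x₂, K.add_mem hx₁ hx₂, fun h => hx₂n ?_, ?_⟩
      · have h' := Submodule.add_mem _ (Submodule.span_mono (show ({u} : Set V) ⊆ {u, x₁} by simp) h)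
          (Submodule.subset_span (show x₁ ∈ ({u, x₁} : Set V) by simp))
        rwa [add_comm x₁, add_assoc, Quad.torsion, add_zero] at h'
      · have h' : U * (S.e x₁ * S.e x₂) = S.e x₁ * S.e x₂ * U := by
          rw [← mul_assoc, e₁, neg_mul, neg_mul, mul_assoc, e₂, neg_mul, mul_neg, neg_neg, mul_assoc]
        rcases (S.e_add x₁ x₂).symm with e | e <;> rw [e]
        · exact h'
        · rw [mul_neg, h', neg_mul]
    have hxu := (hKmem x hxK).1
    have hxne : x ≠ 0 := fun e => hxn (e ▸ Submodule.zero_mem _)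
    rcases bit (S.Q x) with hQx | hQx
    · exact ⟨x, hxu, hxne, hQx, hxU⟩
    refine ⟨x + u, by rw [S.B_add', hxu, S.B_self, add_zero], fun e => hxn ?_, ?_, ?_⟩
    · rw [Quad.eq_of_add_eq_zero e]; exact Submodule.mem_span_singleton_self u
    · rw [S.Q_add, hQx, hu, S.B_comm, hxu]; decide
    · have h' : U * (S.e x * S.e u) = S.e x * S.e u * U := by
        rw [← mul_assoc, hxU, mul_assoc, hUu, mul_assoc]
      rcases (S.e_add x u).symm with e | e <;> rw [e]
      · exact h'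
      · rw [mul_neg, h', neg_mul]
  have huc : S.Q (u + c) = 1 := by rw [S.Q_add, hu, hcQ, hcu]; decide
  obtain ⟨x, hx, hxv, hxp⟩ := S.exists_gate (r := S.e u * S.e c) (s := S.e u) (S.e_add u c) huc (Pm.refl _) hu
  have hEcu : S.E c * S.E u = S.E u * S.E c := by rw [S.E_comm c u, S.B_comm, hcu, sgn_zero, one_smul]
  have hEuu : S.E u * S.E u = -1 := by rw [S.E_sq, hu, sgn_one, neg_one_smul]
  have hxx : x * x = -S.e c := by
    refine Units.ext ?_
    have hcc : S.E c * S.E c = 1 := by rw [S.E_sq, hcQ, sgn_zero, one_smul]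
    have t1 : ∀ A : Mx m F, A * A = -1 → (1 + A) * (1 + A) = (2 : F) • A := fun A hA => by
      simp only [add_mul, mul_add, one_mul, mul_one, hA, two_smul]; abel
    have hr : (S.E u * S.E c) * (S.E u * S.E c) = -1 := by
      rw [show S.E u * S.E c * (S.E u * S.E c) = S.E u * (S.E c * S.E u) * S.E c by simp only [mul_assoc], hEcu,
        ← mul_assoc, hEuu, mul_assoc, hcc, mul_one]
    have hcomm : (1 + S.E u * S.E c) * (1 + S.E u) = (1 + S.E u) * (1 + S.E u * S.E c) := by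
      simp only [add_mul, mul_add, one_mul, mul_one]
      rw [mul_assoc, hEcu]
      abel
    rw [Units.val_mul, hxv, Units.val_mul, smul_mul_smul_comm]
    show _ • ((1 + S.E u) * (1 + S.E u * S.E c) * ((1 + S.E u) * (1 + S.E u * S.E c))) = _
    rw [show (1 + S.E u) * (1 + S.E u * S.E c) * ((1 + S.E u) * (1 + S.E u * S.E c)) =
        (1 + S.E u) * ((1 + S.E u * S.E c) * (1 + S.E u)) * (1 + S.E u * S.E c) by simp only [mul_assoc], hcomm,
      ← mul_assoc, t1 _ hEuu, mul_assoc, t1 _ hr, smul_mul_smul_comm, smul_smul, ← mul_assoc (S.E u) (S.E u), hEuu,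
      show (2 : F)⁻¹ * 2⁻¹ * (2 * 2) = 1 by field_simp [S.two], one_smul]
    simp
  have hxU : x * U = U * x := by
    refine Units.ext ?_
    rw [Units.val_mul, Units.val_mul, hxv, smul_mul_assoc, mul_smul_comm, Units.val_mul (S.e u)]
    congr 1
    have a1 : Commute (U : Mx m F) (S.E u) := commute_inv_val hUu
    have a2 : Commute (U : Mx m F) (S.E c) := commute_inv_val hcU
    exact (((Commute.one_right _).add_right a1).mul_right
      ((Commute.one_right _).add_right (a1.mul_right a2))).eq.symm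
  have hxu : x * S.e u = S.e u * x := by
    refine Units.ext ?_
    rw [Units.val_mul, Units.val_mul, hxv, smul_mul_assoc, mul_smul_comm, Units.val_mul (S.e u)]
    congr 1
    exact (((Commute.one_right _).add_right (Commute.refl (S.E u))).mul_right
      ((Commute.one_right _).add_right ((Commute.refl (S.E u)).mul_right hEcu.symm))).eq.symm
  obtain ⟨h', hh'⟩ : ∃ b, b = g⁻¹ * S.e c * g := ⟨_, rfl⟩
  obtain ⟨x', hx'⟩ : ∃ b, b = g⁻¹ * x * g := ⟨_, rfl⟩
  have hx'x' : x' * x' = -h' := by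
    rw [hx', show g⁻¹ * x * g * (g⁻¹ * x * g) = g⁻¹ * (x * x) * g by group, hxx, hh']
    simp
  have hconjU : ∀ {b : GL (Idx m) F}, b * U = U * b → g⁻¹ * b * g * S.e a = S.e a * (g⁻¹ * b * g) := fun {b} hb => by
    calc g⁻¹ * b * g * S.e a = g⁻¹ * (b * U) * g := by rw [hUdef]; group
      _ = g⁻¹ * (U * b) * g := by rw [hb]
      _ = _ := by rw [hUdef]; group
  have hconju : ∀ {b : GL (Idx m) F}, b * S.e u = S.e u * b → g⁻¹ * b * g * S.e u = S.e u * (g⁻¹ * b * g) := fun {b} hb => by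
    have h1 : g⁻¹ * S.e u = S.e u * g⁻¹ := by
      calc g⁻¹ * S.e u = g⁻¹ * (S.e u * g) * g⁻¹ := by group
        _ = S.e u * g⁻¹ := by rw [← hgu]; group
    calc g⁻¹ * b * g * S.e u = g⁻¹ * (b * (g * S.e u)) := by group
      _ = g⁻¹ * (b * S.e u) * g := by rw [hgu]; group
      _ = g⁻¹ * S.e u * (b * g) := by rw [hb]; group
      _ = _ := by rw [h1]; group
  have hNm : ∀ {b : GL (Idx m) F}, b ∈ S.Nm → b * U = U * b → g⁻¹ * b * g ∈ S.Nm := fun {b} hb hbU =>
    hC a ha haQ _ (M.mul_mem (M.mul_mem (M.inv_mem hgM) (hM hb)) hgM)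
      (Or.inl (by rw [hconjU hbU, mul_inv_cancel_right]))
  have hh'N : h' ∈ S.Nm := hh' ▸ hNm (S.e_mem_Nm c) hcU.symm
  have hx'N : x' ∈ S.Nm := hx' ▸ hNm hx hxU
  have hh'u : h' * S.e u = S.e u * h' := hh' ▸ hconju (S.e_comm' ((S.B_comm _ _).trans hcu))
  have hx'u : x' * S.e u = S.e u * x' := hx' ▸ hconju hxu
  have hh'2 : h' * h' = 1 := by
    rw [hh', show g⁻¹ * S.e c * g * (g⁻¹ * S.e c * g) = g⁻¹ * (S.e c * S.e c) * g by group, S.e_sq, hcQ, sg_zero,
      mul_one, inv_mul_cancel]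
  suffices hR : h' ∈ S.Rm by
    have h := S.mem_Nm_of_conj hM hC hk (M.inv_mem hgM) hc0 hcQ (by rw [inv_inv, ← hh']; exact hR)
    exact inv_inv g ▸ S.Nm.inv_mem h
  -- the matrix of `x'`
  have hx'v : (x' : Mx m F) = (2 : F)⁻¹ • ((1 + S.E u) * (1 + S.E u * (h' : Mx m F))) := by
    have hgi : ((g⁻¹ : GL (Idx m) F) : Mx m F) * S.E u = S.E u * ((g⁻¹ : GL (Idx m) F) : Mx m F) := by
      refine commute_inv_val ?_
      calc g⁻¹ * S.e u = g⁻¹ * (S.e u * g) * g⁻¹ := by group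
        _ = S.e u * g⁻¹ := by rw [← hgu]; group
    rw [hx', Units.val_mul, Units.val_mul, hxv, mul_smul_comm, smul_mul_assoc, Units.val_mul (S.e u), hh',
      Units.val_mul, Units.val_mul]
    congr 1
    show ((g⁻¹ : GL (Idx m) F) : Mx m F) * ((1 + S.E u) * (1 + S.E u * S.E c)) * (g : Mx m F) =
      (1 + S.E u) * (1 + S.E u * (((g⁻¹ : GL (Idx m) F) : Mx m F) * S.E c * (g : Mx m F)))
    have e1 : ((g⁻¹ : GL (Idx m) F) : Mx m F) * (1 + S.E u) = (1 + S.E u) * ((g⁻¹ : GL (Idx m) F) : Mx m F) :=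
      ((Commute.one_right _).add_right hgi).eq
    rw [← mul_assoc ((g⁻¹ : GL (Idx m) F) : Mx m F), e1, mul_assoc, mul_assoc]
    congr 1
    rw [add_mul, one_mul, mul_add, Units.inv_mul]
    congr 1
    simp only [← mul_assoc]
    rw [hgi]
  by_cases hA : ∃ d, S.B u d = 0 ∧ h' * S.e d = -(S.e d * h')
  · obtain ⟨d, hdu, hd⟩ := hA
    obtain ⟨r', hr'⟩ : ∃ b, b = S.e u * h' := ⟨_, rfl⟩
    have h1 : x' * S.e d = r' * S.e d * x' := by
      refine Units.ext ?_
      rw [Units.val_mul, Units.val_mul, hr', Units.val_mul, Units.val_mul, hx'v, smul_mul_assoc, mul_smul_comm]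
      congr 1
      have b1 : S.E u * (h' : Mx m F) = h' * S.E u := (commute_inv_val hh'u).symm
      have b2 : S.E u * S.E d = S.E d * S.E u := by rw [S.E_comm u d, hdu, sgn_zero, one_smul]
      have b3 : (h' : Mx m F) * S.E d = -(S.E d * h') := by
        show (h' : Mx m F) * (S.e d : Mx m F) = -((S.e d : Mx m F) * h')
        rw [← Units.val_mul, hd, Units.val_neg, Units.val_mul]
      have b4 : (h' : Mx m F) * h' = 1 := by rw [← Units.val_mul, hh'2, Units.val_one]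
      obtain ⟨A, hA'⟩ : ∃ A, A = S.E u * (h' : Mx m F) := ⟨_, rfl⟩
      rw [← hA']
      have hAd : A * S.E d = -(S.E d * A) := by
        rw [hA', mul_assoc, b3, mul_neg, ← mul_assoc, b2, mul_assoc]
      have hAu : A * S.E u = S.E u * A := by rw [hA', mul_assoc, ← b1]
      have hAA : A * A = -1 := by
        calc A * A = S.E u * ((h' : Mx m F) * S.E u) * h' := by rw [hA']; simp only [mul_assoc]
          _ = S.E u * S.E u * ((h' : Mx m F) * h') := by rw [← b1]; simp only [mul_assoc]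
          _ = -1 := by rw [hEuu, b4, mul_one]
      have hAdA : A * S.E d * A = S.E d := by rw [hAd, neg_mul, mul_assoc, hAA, mul_neg, mul_one, neg_neg]
      have hm1 : (1 + A) * S.E d = A * S.E d * (1 + A) := by
        rw [add_mul, one_mul, mul_add, mul_one, hAdA, add_comm]
      have hu1 : A * S.E d * (1 + S.E u) = (1 + S.E u) * (A * S.E d) := by
        rw [mul_add, mul_one, add_mul, one_mul, mul_assoc A, ← b2, ← mul_assoc, hAu, mul_assoc]
      rw [mul_assoc, hm1, ← mul_assoc, ← mul_assoc (A * S.E d), hu1]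
    have h2 : r' * S.e d ∈ S.Rm := by
      rw [show r' * S.e d = x' * S.e d * x'⁻¹ by rw [h1, mul_inv_cancel_right]]
      exact (Subgroup.mem_normalizer_iff.1 hx'N.1 _).1 (S.e_mem d)
    have h3 := S.Rm.mul_mem (S.Rm.mul_mem (S.Rm.inv_mem (S.e_mem u)) h2) (S.Rm.inv_mem (S.e_mem d))
    rwa [hr', show (S.e u)⁻¹ * (S.e u * h' * S.e d) * (S.e d)⁻¹ = h' by group] at h3
  push Not at hA
  have hfx : ∀ d, S.B u d = 0 → S.perm h' d = d → S.perm x' d = d := by
    intro d hdu hd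
    have h1 := S.perm_spec hh'N d
    rw [hd] at h1
    have h2 : h' * S.e d = S.e d * h' := by
      rcases h1 with e | e <;> rw [mul_inv_eq_iff_eq_mul] at e
      · exact e
      · exact absurd (by rw [e, neg_mul]) (hA d hdu)
    refine S.perm_eq (Or.inl ?_)
    rw [mul_inv_eq_iff_eq_mul]
    refine Units.ext ?_
    rw [Units.val_mul, Units.val_mul, hx'v, smul_mul_assoc, mul_smul_comm]
    congr 1
    have b2 : S.E u * S.E d = S.E d * S.E u := by rw [S.E_comm u d, hdu, sgn_zero, one_smul]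
    have b3 : (h' : Mx m F) * S.E d = S.E d * h' := commute_inv_val h2
    have c1 : Commute (1 + S.E u) (S.E d) := (Commute.one_left _).add_left b2
    have c2 : Commute (1 + S.E u * (h' : Mx m F)) (S.E d) :=
      (Commute.one_left _).add_left (Commute.mul_left b2 b3)
    exact (c1.mul_left c2).eq
  refine S.rm_of_fix hu hh'N.2 hh'u (Or.inl hh'2) fun d hdu => ?_
  have hρu : S.perm x' u = u := S.perm_eq (Or.inl (by rw [hx'u, mul_inv_cancel_right]))
  have hD : ∀ {v}, S.B u v = 0 → S.B u (S.perm x' v) = 0 := fun {v} hv => by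
    rw [← hρu, S.B_perm hx'N]; exact hv
  have hρρ : ∀ v, S.perm x' (S.perm x' v) = S.perm h' v := fun v => by
    rw [← S.perm_mul hx'N hx'N, hx'x']
    exact S.perm_eq (by rw [inv_neg, neg_mul, neg_mul_neg]; exact S.perm_spec hh'N v)
  have hπh : ∀ v, S.perm h' (S.perm h' v) = v := fun v => by rw [← S.perm_mul hh'N hh'N, hh'2, S.perm_one]
  set d₁ := S.perm x' d + d with hd₁
  set d₂ := S.perm h' d + d with hd₂
  have hd₂u : S.B u d₂ = 0 := by rw [hd₂, S.B_add', ← hρρ, hD (hD hdu), hdu, add_zero]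
  have e1 : S.perm h' d₂ = d₂ := by rw [hd₂, S.perm_add hh'N, hπh, add_comm]
  have e2 : S.perm x' d₁ + d₁ = d₂ := by
    rw [hd₁, hd₂, S.perm_add hx'N, hρρ, add_assoc, Quad.add_cancel']
  have e3 : S.perm h' d₁ = d₁ := by
    have e4 : S.perm x' (S.perm x' d₁ + d₁) = d₂ := by rw [e2]; exact hfx d₂ hd₂u e1
    rw [S.perm_add hx'N, hρρ] at e4
    have e5 : S.perm x' d₁ = d₂ + d₁ := by rw [← e2, add_assoc, Quad.torsion, add_zero]
    rw [e5] at e4
    have e7 : S.perm h' d₁ + (d₂ + d₁) + (d₂ + d₁) = d₂ + (d₂ + d₁) := by rw [e4]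
    rwa [add_assoc, Quad.torsion, add_zero, Quad.add_cancel'] at e7
  have e6 : d₂ = 0 := by
    rw [← e2, hfx d₁ (by rw [hd₁, S.B_add', hD hdu, hdu, add_zero]) e3, Quad.torsion]
  have := S.perm_spec hh'N d
  rwa [show S.perm h' d = d from Quad.eq_of_add_eq_zero e6] at this

include hM hC hk in
/-- A coset representative carried into the normaliser is scalar-like. -/
theorem Ku_of_conj {g : GL (Idx m) F} (hg : g ∈ S.Lu u M) (hgN : g ∉ S.Nm) {h : GL (Idx m) F} (hhM : h ∈ M)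
    {r : V} (hr : S.B u r = 0) (hshape : h * (S.e r)⁻¹ ∈ S.Ku u) (hc : g * h * g⁻¹ ∈ S.Nm) : h ∈ S.Ku u := by
  obtain ⟨l, hl⟩ : ∃ l, l = h * (S.e r)⁻¹ := ⟨_, rfl⟩
  rw [← hl] at hshape
  have hh : h = l * S.e r := by rw [hl, inv_mul_cancel_right]
  by_cases hr0 : r = 0
  · rw [hh, hr0, S.e_zero, mul_one]; exact hshape
  by_cases hru : r = u
  · rw [hh, hru]; exact (S.Ku u).mul_mem hshape S.e_mem_Ku
  exfalso
  obtain ⟨a, ha, haQ, hau, l', hl', hla⟩ : ∃ a, a ≠ 0 ∧ S.Q a = 0 ∧ S.B u a = 0 ∧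
      ∃ l', l' ∈ S.Ku u ∧ h = l' * S.e a := by
    rcases bit (S.Q r) with hQ | hQ
    · exact ⟨r, hr0, hQ, hr, l, hshape, hh⟩
    refine ⟨u + r, fun e => hru (Quad.eq_of_add_eq_zero e).symm, by rw [S.Q_add, hu, hQ, hr]; decide,
      by rw [S.B_add', S.B_self, hr, add_zero], ?_⟩
    have hneg : (-1 : GL (Idx m) F) ∈ S.Ku u := S.mem_Ku.2 ⟨neg_one_mem_sp, fun z _ => by simp⟩
    have h1 := S.e_add u (u + r)
    rw [Quad.add_cancel'] at h1
    rcases h1.symm with e | e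
    · exact ⟨l * S.e u, (S.Ku u).mul_mem hshape S.e_mem_Ku, by rw [hh, e, mul_assoc]⟩
    · exact ⟨l * S.e u * -1, (S.Ku u).mul_mem ((S.Ku u).mul_mem hshape S.e_mem_Ku) hneg,
        by rw [hh, e]; simp [mul_assoc]⟩
  have hlM : l' ∈ M := by
    have := M.mul_mem hhM (M.inv_mem (hM (S.e_mem_Nm a)))
    rwa [hla, mul_inv_cancel_right] at this
  have hlN := S.Ku_mem_Nm hu hC hk hl' hlM
  obtain ⟨-, hgu⟩ := S.mem_Lu.1 hg
  refine hgN (S.close hu hM hC hk hg hau ha haQ ?_)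
  have := S.Nm.mul_mem (S.Nm.inv_mem hlN) hc
  rwa [hla, show g * (l' * S.e a) * g⁻¹ = l' * (g * S.e a * g⁻¹) by
    rw [← mul_assoc g, S.Ku_comm hu hl' hgu]; simp only [mul_assoc], inv_mul_cancel_left] at this

end Sys

end CfsgLib.Geo.PauliSp
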