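import Cfsg.Agent.Geo.PauliSp.Frame

/-!
In an overgroup the centraliser of an element of square minus one lies in the normaliser: descent along frames.
-/

set_option autoImplicit false
set_option linter.unusedSectionVars false
set_option linter.unusedSimpArgs false
set_option linter.style.haveILetI false
set_option maxHeartbeats 800000

namespace CfsgLib.Geo.PauliSp

open Matrix Module
open CfsgLib.Geo.PauliEight (sgn sgn_zero sgn_one)

variable {m : ℕ} {F : Type*} [Field F] {V : Type*} [AddCommGroup V] [Module (ZMod 2) V] [Fintype V]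

namespace Sys

variable (S : Sys m F V)

/-- The element commutes with all sums of a frame. -/
def Fixes (u : V) (l : List (V × V)) (g : GL (Idx m) F) : Prop := ∀ p ∈ l, Commute (g : Mx m F) (S.Sh u p)

/-- No element outside the normaliser fixes the frame. -/
def Good (u : V) (M : Subgroup (GL (Idx m) F)) (l : List (V × V)) : Prop :=
  ∀ g ∈ S.Lu u M, S.Fixes u l g → g ∈ S.Nm

variable {S} in
theorem Fixes.mul {u : V} {l : List (V × V)} {g h : GL (Idx m) F} (hg : S.Fixes u l g) (hh : S.Fixes u l h) :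
    S.Fixes u l (g * h) := fun p hp => by rw [Units.val_mul]; exact (hg p hp).mul_left (hh p hp)

variable {S} in
theorem Fixes.inv {u : V} {l : List (V × V)} {g : GL (Idx m) F} (hg : S.Fixes u l g) :
    S.Fixes u l g⁻¹ := fun p hp => (hg p hp).units_inv_left

theorem fixes_one (u : V) (l : List (V × V)) : S.Fixes u l 1 := fun p _ => by
  rw [Units.val_one]; exact Commute.one_left _

variable {S} in
theorem Fixes.pow {u : V} {l : List (V × V)} {g : GL (Idx m) F} (hg : S.Fixes u l g) :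
    ∀ j : ℕ, S.Fixes u l (g ^ j)
  | 0 => by rw [pow_zero]; exact S.fixes_one u l
  | j + 1 => by rw [pow_succ]; exact (Fixes.pow hg j).mul hg

theorem fixes_e {u : V} {l : List (V × V)} {d : V} (hd : S.B u d = 0) (h : ∀ q ∈ l, S.B q.1 d = 0 ∧ S.B q.2 d = 0) :
    S.Fixes u l (S.e d) := fun q hq => by
  show S.E d * S.Sh u q = S.Sh u q * S.E d
  rw [S.sh_E hd (h q hq).1 (h q hq).2, sgn_zero, one_smul]

theorem conj_fixes {u : V} {l : List (V × V)} {d : V} (hd : S.B u d = 0) (h : ∀ q ∈ l, S.B q.1 d = S.B q.2 d)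
    {g : GL (Idx m) F} (hg : S.Fixes u l g) : S.Fixes u l (S.e d * g * (S.e d)⁻¹) := fun q hq => by
  have e := S.sh_E (u := u) (p := q) hd rfl (h q hq).symm
  have e' : S.E d * S.Sh u q = sgn F (S.B q.1 d) • (S.Sh u q * S.E d) := by
    rw [e, smul_smul, PauliEight.sgn_sq, one_smul]
  have e'' : ((S.e d)⁻¹ : GL (Idx m) F).val * S.Sh u q = sgn F (S.B q.1 d) • (S.Sh u q * ((S.e d)⁻¹ : GL (Idx m) F).val) := by
    have h1 := congrArg (fun X => ((S.e d)⁻¹ : GL (Idx m) F).val * X * ((S.e d)⁻¹ : GL (Idx m) F).val) e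
    simp only [mul_smul_comm, smul_mul_assoc, mul_assoc, Units.mul_inv, mul_one] at h1
    rw [h1, ← mul_assoc ((S.e d)⁻¹ : GL (Idx m) F).val (S.E d), Units.inv_mul, one_mul]
  show _ = _
  rw [Units.val_mul, Units.val_mul, mul_assoc, e'', mul_smul_comm, ← mul_assoc, mul_assoc (S.E d), (hg q hq).eq,
    ← mul_assoc (S.E d), e', smul_mul_assoc, smul_mul_assoc, smul_smul, PauliEight.sgn_sq, one_smul]
  simp only [mul_assoc]

theorem e_mem_Lu {u : V} {M : Subgroup (GL (Idx m) F)} (hM : S.Nm ≤ M) {d : V} (hd : S.B u d = 0) :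
    S.e d ∈ S.Lu u M := S.mem_Lu.2 ⟨hM (S.e_mem_Nm d), (S.e_comm' hd).symm⟩

theorem fix_of_mem_Rm {v : GL (Idx m) F} (hv : v ∈ S.Rm) (z : V) : Pm (v * S.e z * v⁻¹) (S.e z) := by
  obtain ⟨r, hr⟩ := hv
  exact ((hr.mul (Pm.refl _)).mul hr.inv).trans (Pm.of_sg (S.e_conj r z))

theorem span_frame_le (u : V) : ∀ l : List (V × V),
    finrank (ZMod 2) (Submodule.span (ZMod 2) (insert u (Fs l))) ≤ 1 + 2 * l.length
  | [] => by
    classical
    rw [show insert u (Fs ([] : List (V × V))) = {u} by ext v; simp [Fs]]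
    exact (finrank_span_le_card _).trans (by simp)
  | p :: l => by
    have ih := span_frame_le u l
    have hle : Submodule.span (ZMod 2) (insert u (Fs (p :: l))) ≤
        Submodule.span (ZMod 2) (insert u (Fs l)) ⊔ Submodule.span (ZMod 2) ({p.1, p.2} : Set V) := by
      rw [← Submodule.span_union]
      refine Submodule.span_mono ?_
      rintro v (rfl | ⟨q, hq, hv⟩)
      · exact Or.inl (Set.mem_insert _ _)
      rcases List.mem_cons.1 hq with rfl | hq'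
      · exact Or.inr (by rcases hv with rfl | rfl <;> simp)
      · exact Or.inl (Or.inr ⟨q, hq', hv⟩)
    have h1 := (Submodule.finrank_mono hle).trans (Submodule.finrank_add_le_finrank_add_finrank _ _)
    have h2 := Quad.finrank_span_le_two p.1 p.2
    rw [List.length_cons]
    omega

variable [Finite F] {u : V} (hu : S.Q u = 1) {M : Subgroup (GL (Idx m) F)} (hM : S.Nm ≤ M)
  (hsp : M ≤ Cfsg.spGL m F) (hC : S.CentOne M) (hk : 4 ≤ S.k)
include hu hM hsp hC hk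

/-- A full frame is fixed only inside the normaliser. -/
theorem good_full {l : List (V × V)} (hl : S.IsFrame u l)
    (hiso : ∀ a ∈ S.Uo u l, ∀ b ∈ S.Uo u l, S.B a b = 0) : S.Good u M l := by
  intro g hg hfix
  obtain ⟨hgM, hgu⟩ := S.mem_Lu.1 hg
  have hU : ∀ w ∈ S.Uo u l, w = 0 ∨ w = u := fun w hw => S.radical hl hw fun y hy => hiso y hy w hw
  have hlen : 2 ≤ l.length := by
    by_contra h
    have h1 := S.finrank_perp (Submodule.span (ZMod 2) (insert u (Fs l)))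
    have h2 := span_frame_le u l
    obtain ⟨a, ha, b, hb, hab⟩ := S.exists_hyp_pair (U := S.Uo u l) (by rw [Uo]; omega)
    rw [hiso a ha b hb] at hab
    exact zero_ne_one hab
  obtain ⟨p, q, l', rfl⟩ : ∃ p q l', l = p :: q :: l' := by
    match l, hlen with
    | p :: q :: l', _ => exact ⟨p, q, l', rfl⟩
  have hpl : p ∈ p :: q :: l' := List.mem_cons_self
  have hql : q ∈ p :: q :: l' := List.mem_cons_of_mem _ List.mem_cons_self
  have hp := hl.1 p hpl
  have hq := hl.1 q hql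
  have hpq : S.Orth p q := (List.pairwise_cons.1 hl.2).1 q List.mem_cons_self
  have hqp : S.Orth q p := Orth.symm S hpq
  -- vectors with equal bits on every pair
  have hbits : ∀ {t : V × V}, t ∈ p :: q :: l' → S.B u (t.1 + t.2 + u) = 0 ∧ S.Q (t.1 + t.2 + u) = 0 ∧
      S.B t.1 (t.1 + t.2 + u) = 1 ∧ ∀ s ∈ p :: q :: l', S.B s.1 (t.1 + t.2 + u) = S.B s.2 (t.1 + t.2 + u) := by
    intro t ht
    have h := hl.1 t ht
    have hba : S.B t.2 t.1 = 1 := (S.B_comm _ _).trans h.one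
    have h1u : S.B t.1 u = 0 := (S.B_comm _ _).trans h.u_fst
    have h2u : S.B t.2 u = 0 := (S.B_comm _ _).trans h.u_snd
    refine ⟨by simp [h.u_fst, h.u_snd], ?_, by simp [h.one, h1u], fun s hs => ?_⟩
    · rw [S.Q_add, S.Q_add, h.fst, h.snd, hu, h.one, S.B_add, h1u, h2u]; decide
    · by_cases hst : s = t
      · subst hst; simp [h.one, hba, h1u, h2u]
      · have ho := hl.orth_of_ne S hs ht hst
        have h' := hl.1 s hs
        simp [ho.1, ho.2.1, ho.2.2.1, ho.2.2.2, (S.B_comm _ _).trans h'.u_fst, (S.B_comm _ _).trans h'.u_snd]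
  obtain ⟨hcu, hcQ, hcp, hcs⟩ := hbits hpl
  obtain ⟨hdu, hdQ, hdq, hds⟩ := hbits hql
  obtain ⟨c, hc⟩ : ∃ c, c = p.1 + p.2 + u := ⟨_, rfl⟩
  obtain ⟨d, hd⟩ : ∃ d, d = q.1 + q.2 + u := ⟨_, rfl⟩
  rw [← hc] at hcu hcQ hcp hcs
  rw [← hd] at hdu hdQ hdq hds
  have hpd : S.B p.1 d = 0 := by simp [hd, hpq.1, hpq.2.1, (S.B_comm _ _).trans hp.u_fst]
  have hcd : S.B c d = 0 := by
    have h2 : S.B p.2 d = 0 := by simp [hd, hpq.2.2.1, hpq.2.2.2, (S.B_comm _ _).trans hp.u_snd]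
    rw [hc, S.B_add, S.B_add, hpd, h2, hdu]; decide
  have hecd : S.B u (c + d) = 0 := by rw [S.B_add', hcu, hdu, add_zero]
  have hecQ : S.Q (c + d) = 0 := by rw [S.Q_add, hcQ, hdQ, hcd]; decide
  have hc0 : c ≠ 0 := fun e => by rw [e, map_zero] at hcp; exact zero_ne_one hcp
  have hd0 : d ≠ 0 := fun e => by rw [e, map_zero] at hdq; exact zero_ne_one hdq
  have hcd0 : c + d ≠ 0 := fun e => by
    have h : S.B p.1 (c + d) = 1 := by rw [S.B_add', hcp, hpd, add_zero]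
    rw [e, map_zero] at h
    exact zero_ne_one h
  -- the commutant is abelian
  have hcomm : ∀ {a b : GL (Idx m) F}, a ∈ S.Lu u M → b ∈ S.Lu u M → S.Fixes u (p :: q :: l') a →
      S.Fixes u (p :: q :: l') b → a * b = b * a := by
    intro a b ha hb fa fb
    have hau := commute_inv_val (S.mem_Lu.1 ha).2
    have hbu := commute_inv_val (S.mem_Lu.1 hb).2
    refine Units.ext ?_
    rw [Units.val_mul, Units.val_mul]
    exact S.commute_of_frame hu (p :: q :: l') [] hl (by simp) (fun w _ hw => hU w hw) _ _ hau hbu (by simp)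
      (fun t ht => S.comm_pair_of_sh hu hau (fa t ht).eq) (fun t ht => S.comm_pair_of_sh hu hbu (fb t ht).eq)
  obtain ⟨g₁, hg₁⟩ : ∃ a, a = S.e c * g * (S.e c)⁻¹ := ⟨_, rfl⟩
  obtain ⟨g₂, hg₂⟩ : ∃ a, a = S.e d * g * (S.e d)⁻¹ := ⟨_, rfl⟩
  obtain ⟨g₃, hg₃⟩ : ∃ a, a = S.e (c + d) * g * (S.e (c + d))⁻¹ := ⟨_, rfl⟩
  have hL : ∀ {v : V}, S.B u v = 0 → S.e v * g * (S.e v)⁻¹ ∈ S.Lu u M := fun {v} hv =>
    (S.Lu u M).mul_mem ((S.Lu u M).mul_mem (S.e_mem_Lu hM hv) hg) ((S.Lu u M).inv_mem (S.e_mem_Lu hM hv))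
  have f₁ : S.Fixes u (p :: q :: l') g₁ := hg₁ ▸ S.conj_fixes hcu hcs hfix
  have f₂ : S.Fixes u (p :: q :: l') g₂ := hg₂ ▸ S.conj_fixes hdu hds hfix
  have f₃ : S.Fixes u (p :: q :: l') g₃ := hg₃ ▸ S.conj_fixes hecd (fun s hs => by
    rw [S.B_add', S.B_add', hcs s hs, hds s hs]) hfix
  have hL₁ : g₁ ∈ S.Lu u M := hg₁ ▸ hL hcu
  have hL₂ : g₂ ∈ S.Lu u M := hg₂ ▸ hL hdu
  have hL₃ : g₃ ∈ S.Lu u M := hg₃ ▸ hL hecd
  have c01 := hcomm hg hL₁ hfix f₁
  have c02 := hcomm hg hL₂ hfix f₂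
  have c03 := hcomm hg hL₃ hfix f₃
  have c23 := hcomm hL₂ hL₃ f₂ f₃
  -- conjugation by monomials composes by addition
  have hadd : ∀ (v w : V) (a : GL (Idx m) F), S.e v * (S.e w * a * (S.e w)⁻¹) * (S.e v)⁻¹ =
      S.e (v + w) * a * (S.e (v + w))⁻¹ := by
    intro v w a
    refine Units.ext ?_
    rw [show S.e v * (S.e w * a * (S.e w)⁻¹) * (S.e v)⁻¹ = S.e v * S.e w * a * (S.e v * S.e w)⁻¹ by group,
      ← PauliEight.cj_coe, ← PauliEight.cj_coe]
    exact (S.e_add v w).cj_eq _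
  have hzero : ∀ a : GL (Idx m) F, S.e 0 * a * (S.e 0)⁻¹ = a := fun a => by rw [S.e_zero]; group
  have hcg₁ : S.e c * g₁ * (S.e c)⁻¹ = g := by rw [hg₁, hadd, Quad.torsion, hzero]
  have hdg₂ : S.e d * g₂ * (S.e d)⁻¹ = g := by rw [hg₂, hadd, Quad.torsion, hzero]
  have heg₃ : S.e (c + d) * g₃ * (S.e (c + d))⁻¹ = g := by rw [hg₃, hadd, Quad.torsion, hzero]
  have hN : ∀ {v : V} {a : GL (Idx m) F}, v ≠ 0 → S.Q v = 0 → a ∈ M → S.e v * a * (S.e v)⁻¹ = a → a ∈ S.Nm := by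
    intro v a hv hQv ha h
    refine hC v hv hQv a ha (Or.inl ?_)
    rw [mul_inv_eq_iff_eq_mul]
    exact (mul_inv_eq_iff_eq_mul.1 h).symm
  have hM₁ := (S.mem_Lu.1 (hL hcu)).1
  have hM₂ := (S.mem_Lu.1 (hL hdu)).1
  have hM₃ := (S.mem_Lu.1 (hL hecd)).1
  rw [← hg₁] at hM₁
  rw [← hg₂] at hM₂
  rw [← hg₃] at hM₃
  have hdist : ∀ (v : V) (a b : GL (Idx m) F), S.e v * (a * b) * (S.e v)⁻¹ =
      S.e v * a * (S.e v)⁻¹ * (S.e v * b * (S.e v)⁻¹) := fun v a b => by group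
  have n₁ : g * g₁ ∈ S.Nm := hN hc0 hcQ (M.mul_mem hgM hM₁) (by rw [hdist, hcg₁, ← hg₁, c01])
  have n₂ : g * g₂ ∈ S.Nm := hN hd0 hdQ (M.mul_mem hgM hM₂) (by rw [hdist, hdg₂, ← hg₂, c02])
  have n₃ : g * g₃ ∈ S.Nm := hN hcd0 hecQ (M.mul_mem hgM hM₃) (by rw [hdist, heg₃, ← hg₃, c03])
  have n₄ : g * g₁ * (g₂ * g₃) ∈ S.Nm := hN hc0 hcQ (M.mul_mem (M.mul_mem hgM hM₁) (M.mul_mem hM₂ hM₃)) (by
    rw [hdist, hdist, hdist, hcg₁, ← hg₁, show S.e c * g₂ * (S.e c)⁻¹ = g₃ by rw [hg₂, hadd, ← hg₃],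
      show S.e c * g₃ * (S.e c)⁻¹ = g₂ by rw [hg₃, hadd, Quad.add_cancel', ← hg₂], c01, c23])
  have hgg : g * g ∈ S.Nm := by
    have A1 : Commute g g₁ := c01
    have A2 : Commute g g₂ := c02
    have e : g * g₁ * (g * g₂) * (g * g₃) = g * g * (g * g₁ * (g₂ * g₃)) :=
      calc g * g₁ * (g * g₂) * (g * g₃) = g * (g₁ * g) * (g₂ * g) * g₃ := by group
        _ = g * (g * g₁) * (g * g₂) * g₃ := by rw [← A1.eq, ← A2.eq]
        _ = g * g * (g₁ * g) * g₂ * g₃ := by group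
        _ = g * g * (g * g₁) * g₂ * g₃ := by rw [← A1.eq]
        _ = _ := by group
    have h := S.Nm.mul_mem (S.Nm.mul_mem (S.Nm.mul_mem n₁ n₂) n₃) (S.Nm.inv_mem n₄)
    rwa [e, mul_inv_cancel_right] at h
  refine S.close hu hM hC hk hg hcu hc0 hcQ ?_
  have h := S.Nm.mul_mem (S.Nm.mul_mem hgg (S.Nm.inv_mem n₁)) (S.e_mem_Nm c)
  have e : g * g * (g * g₁)⁻¹ = g * g₁⁻¹ := by
    have A1 : Commute g g₁ := c01
    rw [A1.eq]; group
  rw [e, hg₁] at h
  simpa [mul_assoc] using h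

/-- One pair more. -/
theorem good_step {l : List (V × V)} {p : V × V} (hpl : S.IsFrame u (p :: l)) (ih : S.Good u M (p :: l)) :
    S.Good u M l := by
  intro g hg hfix
  by_contra hgN
  have hl : S.IsFrame u l := ⟨fun q hq => hpl.1 q (List.mem_cons_of_mem _ hq), (List.pairwise_cons.1 hpl.2).2⟩
  have hp := hpl.1 p List.mem_cons_self
  have hpo : ∀ q ∈ l, S.Orth p q := (List.pairwise_cons.1 hpl.2).1
  obtain ⟨hgM, hgu⟩ := S.mem_Lu.1 hg
  obtain ⟨s, hsN, hsv, hss, hsu, hsp'⟩ := S.exists_s hu hp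
  have hsL : s ∈ S.Lu u M := S.mem_Lu.2 ⟨hM hsN, hsu⟩
  have hsfix : S.Fixes u l s := fun q hq => by
    rw [hsv]; exact (show Commute (S.Sh u p) (S.Sh u q) from S.sh_comm hp (hl.1 q hq) (hpo q hq)).smul_left _
  have hab : S.tv (p.1 + p.2) p.1 = p.2 := S.tv_swap hp.one
  have hne12 : p.1 ≠ p.2 := fun e => by
    have := hp.one
    rw [e, S.B_self] at this
    exact zero_ne_one this
  set L := S.Lu u M with hLdef
  let K0 : Subgroup L := (S.Ku u).subgroupOf L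
  have hKc : ∀ {a b : GL (Idx m) F}, a ∈ S.Ku u → b ∈ L → b * a = a * b := fun {a b} ha hb =>
    S.Ku_comm hu ha (S.mem_Lu.1 hb).2
  haveI : K0.Normal := ⟨fun a ha b => by
    have ha' : (a : GL (Idx m) F) ∈ S.Ku u := ha
    show (b : GL (Idx m) F) * a * (b : GL (Idx m) F)⁻¹ ∈ S.Ku u
    rw [hKc ha' b.2, mul_inv_cancel_right]
    exact ha'⟩
  haveI : Finite (L ⧸ K0) := Quotient.finite _
  set pr := QuotientGroup.mk' K0 with hprdef
  have hpr : ∀ a b : L, pr a = pr b → (a : GL (Idx m) F) * (b : GL (Idx m) F)⁻¹ ∈ S.Ku u := fun a b h => by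
    have h1 : pr (a * b⁻¹) = 1 := by rw [map_mul, map_inv, h, mul_inv_cancel]
    exact (QuotientGroup.eq_one_iff (N := K0) (a * b⁻¹)).1 h1
  have hKN : ∀ {a : GL (Idx m) F}, a ∈ S.Ku u → a ∈ L → a ∈ S.Nm := fun {a} ha haL =>
    S.Ku_mem_Nm hu hC hk ha (S.mem_Lu.1 haL).1
  -- fixing lines
  have hmulK : ∀ {a b : GL (Idx m) F}, a ∈ S.Ku u → (∀ z, S.B u z = 0 → Pm (b * S.e z * b⁻¹) (S.e z)) →
      ∀ z, S.B u z = 0 → Pm (a * b * S.e z * (a * b)⁻¹) (S.e z) := by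
    intro a b ha hb z hz
    rw [show a * b * S.e z * (a * b)⁻¹ = a * (b * S.e z * b⁻¹) * a⁻¹ by group]
    refine ((hb z hz).conj a).trans (Or.inl ?_)
    rw [(S.mem_Ku.1 ha).2 z hz, mul_inv_cancel_right]
  -- conjugates of the involutions
  have key : ∀ {x : V}, x ∈ S.Uo u l → x ≠ 0 → S.Q x = 0 →
      ∃ w, w ∈ L ∧ w ∈ S.Nm ∧ S.Fixes u l (g⁻¹ * w * g) ∧ g⁻¹ * w * g ∈ S.Nm ∧ S.perm (g⁻¹ * w * g) x = x ∧
        ∀ d, S.B u d = 0 → S.perm w d = S.tv (p.1 + p.2) d := by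
    intro x hx hx0 hxQ
    obtain ⟨hxu, hxl⟩ := S.mem_Uo.1 hx
    obtain ⟨x', hx'⟩ : ∃ b, b = g * S.e x * g⁻¹ := ⟨_, rfl⟩
    have hx'L : x' ∈ L := hx' ▸ L.mul_mem (L.mul_mem hg (S.e_mem_Lu hM hxu)) (L.inv_mem hg)
    have hx'fix : S.Fixes u l x' := hx' ▸ (hfix.mul (S.fixes_e hxu hxl)).mul hfix.inv
    have hx'2 : x' * x' = 1 := by
      rw [hx', show g * S.e x * g⁻¹ * (g * S.e x * g⁻¹) = g * (S.e x * S.e x) * g⁻¹ by group, S.e_sq, hxQ, sg_zero,
        mul_one, mul_inv_cancel]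
    have hsb : pr ⟨s, hsL⟩ * pr ⟨s, hsL⟩ = 1 := by
      rw [← map_mul]
      refine (QuotientGroup.eq_one_iff _).2 ?_
      show s * s ∈ S.Ku u
      rw [hss]; exact S.e_mem_Ku
    have hbb : pr ⟨x', hx'L⟩ * pr ⟨x', hx'L⟩ = 1 := by
      rw [← map_mul, show (⟨x', hx'L⟩ : L) * ⟨x', hx'L⟩ = 1 from Subtype.ext hx'2, map_one]
    obtain ⟨j, hj⟩ := PauliEight.dihedral hsb hbb (isOfFinOrder_of_finite _)
    set P : L := ⟨s, hsL⟩ * ⟨x', hx'L⟩ with hP
    simp only [← map_mul, ← map_inv, ← map_pow, ← hP] at hj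
    obtain ⟨h, hh⟩ : ∃ b, b = ((P ^ j : L) : GL (Idx m) F) * g := ⟨_, rfl⟩
    have hhL : h ∈ L := hh ▸ L.mul_mem (P ^ j).2 hg
    have hhx : h * S.e x * h⁻¹ = ((P ^ j * ⟨x', hx'L⟩ * (P ^ j)⁻¹ : L) : GL (Idx m) F) := by
      rw [hh, Subgroup.coe_mul, Subgroup.coe_mul, Subgroup.coe_inv]
      show _ = _ * x' * _
      rw [hx']
      group
    -- from a coset of the quotient to a fixing element
    have fromq : ∀ (b : L), pr (P ^ j * ⟨x', hx'L⟩ * (P ^ j)⁻¹) = pr b → (b : GL (Idx m) F) ∈ S.Nm →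
        h ∈ S.Nm ∧ ∀ z, S.B u z = 0 → Pm ((b : GL (Idx m) F) * S.e z * (b : GL (Idx m) F)⁻¹) (S.e z) := by
      intro b hb hbN
      have hl1 := hpr _ _ hb
      rw [← hhx] at hl1
      have hlL : h * S.e x * h⁻¹ * (b : GL (Idx m) F)⁻¹ ∈ L :=
        L.mul_mem (L.mul_mem (L.mul_mem hhL (S.e_mem_Lu hM hxu)) (L.inv_mem hhL)) (L.inv_mem b.2)
      have hN1 : h * S.e x * h⁻¹ ∈ S.Nm := by
        have := S.Nm.mul_mem (hKN hl1 hlL) hbN
        rwa [inv_mul_cancel_right] at this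
      have hhN := S.close hu hM hC hk hhL hxu hx0 hxQ hN1
      refine ⟨hhN, fun z hz => ?_⟩
      have h2 := hmulK ((S.Ku u).inv_mem hl1) (b := h * S.e x * h⁻¹)
        (fun z' _ => S.fix_of_mem_Rm ((Subgroup.mem_normalizer_iff.1 hhN.1 _).1 (S.e_mem x)) z') z hz
      rwa [show (h * S.e x * h⁻¹ * (b : GL (Idx m) F)⁻¹)⁻¹ * (h * S.e x * h⁻¹) = b by group] at h2
    rcases hj with hj | ⟨i, hi1, his, hib, hj⟩
    · exfalso
      obtain ⟨-, hf⟩ := fromq ⟨s, hsL⟩ hj hsN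
      refine hne12 ?_
      rw [← hab, ← hsp' p.1 hp.u_fst]
      exact (S.perm_eq (hf p.1 hp.u_fst)).symm
    obtain ⟨w, hw⟩ : ∃ b, b = ((P ^ i : L) : GL (Idx m) F) := ⟨_, rfl⟩
    have hwL : w ∈ L := hw ▸ (P ^ i).2
    have hwK : w ∉ S.Ku u := fun h' => hi1 ((QuotientGroup.eq_one_iff _).2 (show ((P ^ i : L) : GL (Idx m) F) ∈ S.Ku u from hw ▸ h'))
    have hwfix : S.Fixes u l w := by
      rw [hw, Subgroup.coe_pow]
      exact (hsfix.mul hx'fix).pow i
    -- an element of order two mod the scalars sees `w` up to sign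
    have hsign : ∀ {a : GL (Idx m) F} (ha : a ∈ L), (∀ b ∈ L, a * a * b = b * (a * a)) →
        pr (⟨a, ha⟩ * P ^ i) = pr (P ^ i * ⟨a, ha⟩) → Pm (a * w * a⁻¹) w := by
      intro a ha haa he
      have hlK := hpr _ _ he
      simp only [Subgroup.coe_mul, ← hw] at hlK
      obtain ⟨r, hr⟩ : ∃ r, r = a * w * (w * a)⁻¹ := ⟨_, rfl⟩
      rw [← hr] at hlK
      have e1 : a * w * a⁻¹ = r * w := by rw [hr]; group
      have e2 : r * r = 1 := by
        have h1 : a * (r * w) * a⁻¹ = r * (r * w) := by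
          rw [show a * (r * w) * a⁻¹ = (a * r) * w * a⁻¹ by group, hKc hlK ha, ← e1]; group
        rw [← e1, show a * (a * w * a⁻¹) * a⁻¹ = (a * a) * w * (a * a)⁻¹ by group, haa w hwL, mul_inv_cancel_right,
          e1, ← mul_assoc] at h1
        exact (mul_eq_right.1 h1.symm)
      rw [e1]
      simpa using (S.pm_one_of_sq hu hlK e2).mul (Pm.refl w)
    have hws : Pm (s * w * s⁻¹) w := hsign hsL (fun b hb => by rw [hss, (S.mem_Lu.1 hb).2]) his
    have hwx : Pm (x' * w * x'⁻¹) w := hsign hx'L (fun b _ => by rw [hx'2, one_mul, mul_one]) hib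
    have hShs : S.Sh u p = (2 : F) • (s : Mx m F) := by rw [hsv, smul_smul, mul_inv_cancel₀ S.two, one_smul]
    have hwN : w ∈ S.Nm := by
      rcases hws with e | e <;> rw [mul_inv_eq_iff_eq_mul] at e
      · refine ih w hwL fun q hq => ?_
        rcases List.mem_cons.1 hq with rfl | hq'
        · rw [hShs]
          exact (show Commute (w : Mx m F) (s : Mx m F) from commute_inv_val e.symm).smul_right _
        · exact hwfix q hq'
      · obtain ⟨c, hc⟩ : ∃ c, c = p.1 + p.2 + u := ⟨_, rfl⟩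
        have hcu : S.B u c = 0 := by simp [hc, hp.u_fst, hp.u_snd]
        have hcl : ∀ q ∈ l, S.B q.1 c = 0 ∧ S.B q.2 c = 0 := fun q hq => by
          have ho := hpo q hq
          simp [hc, (S.B_comm _ _).trans ho.1, (S.B_comm _ _).trans ho.2.1, (S.B_comm _ _).trans ho.2.2.1,
            (S.B_comm _ _).trans ho.2.2.2, (S.B_comm _ _).trans (hl.1 q hq).u_fst,
            (S.B_comm _ _).trans (hl.1 q hq).u_snd]
        have h1 : S.B p.1 c = 1 := by simp [hc, hp.one, (S.B_comm _ _).trans hp.u_fst]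
        have h2 : S.B p.2 c = 1 := by simp [hc, (S.B_comm _ _).trans hp.one, (S.B_comm _ _).trans hp.u_snd]
        have hsc : S.Sh u p * S.E c = -(S.E c * S.Sh u p) := by
          rw [S.sh_E hcu h1 h2, sgn_one, neg_one_smul]
        have hsw : S.Sh u p * (w : Mx m F) = -((w : Mx m F) * S.Sh u p) := by
          have e' := congrArg Units.val e
          simp only [Units.val_mul, Units.val_neg, neg_mul] at e'
          rw [hShs, smul_mul_assoc, mul_smul_comm, e', smul_neg]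
        have := ih (w * S.e c) (L.mul_mem hwL (S.e_mem_Lu hM hcu)) fun q hq => by
          rcases List.mem_cons.1 hq with rfl | hq'
          · show _ = _
            rw [Units.val_mul, ← mul_assoc, hsw, neg_mul, mul_assoc, mul_assoc]
            show (w : Mx m F) * (S.E c * _) = -((w : Mx m F) * (_ * S.E c))
            rw [hsc, mul_neg, neg_neg]
          · exact (hwfix.mul (S.fixes_e hcu hcl)) q hq'
        exact (S.Nm.mul_mem_cancel_right (S.e_mem_Nm c)).1 this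
    obtain ⟨w', hw'⟩ : ∃ b, b = g⁻¹ * w * g := ⟨_, rfl⟩
    have hw'L : w' ∈ L := hw' ▸ L.mul_mem (L.mul_mem (L.inv_mem hg) hwL) hg
    have hw'x : Pm (w' * S.e x * w'⁻¹) (S.e x) := by
      have h1 : Pm (w * x' * w⁻¹) x' := by
        have h2 := ((hwx.mul (Pm.refl w⁻¹)).inv).mul (Pm.refl x')
        rw [mul_inv_cancel, inv_one, one_mul,
          show (x' * w * x'⁻¹ * w⁻¹)⁻¹ * x' = w * x' * w⁻¹ * (x'⁻¹ * x') by group, inv_mul_cancel, mul_one] at h2
        exact h2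
      have h3 := h1.conj g⁻¹
      rw [hw']
      simpa [hx', mul_assoc] using h3
    have hw'N : w' ∈ S.Nm := hC x hx0 hxQ w' (S.mem_Lu.1 hw'L).1 hw'x
    have hw'fix : S.Fixes u l w' := hw' ▸ (hfix.inv.mul hwfix).mul hfix
    rcases hj with hj | ⟨-, hj⟩
    · exfalso
      have hl1 := hpr _ _ hj
      rw [← hhx, Subgroup.coe_mul, ← hw] at hl1
      obtain ⟨r, hr⟩ : ∃ r, r = h * S.e x * h⁻¹ * (w * x')⁻¹ := ⟨_, rfl⟩
      rw [← hr] at hl1
      have hrL : r ∈ L := hr ▸ L.mul_mem (L.mul_mem (L.mul_mem hhL (S.e_mem_Lu hM hxu)) (L.inv_mem hhL))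
        (L.inv_mem (L.mul_mem hwL hx'L))
      have e1 : g⁻¹ * h * S.e x * (g⁻¹ * h)⁻¹ = r * (w' * S.e x) := by
        have e2 : h * S.e x * h⁻¹ = r * (w * x') := by rw [hr]; group
        calc g⁻¹ * h * S.e x * (g⁻¹ * h)⁻¹ = g⁻¹ * (h * S.e x * h⁻¹) * g := by group
          _ = g⁻¹ * r * (w * x') * g := by rw [e2]; group
          _ = r * g⁻¹ * (w * x') * g := by rw [hKc hl1 (L.inv_mem hg)]
          _ = _ := by rw [hw', hx']; group
      have hN1 : g⁻¹ * h * S.e x * (g⁻¹ * h)⁻¹ ∈ S.Nm := by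
        rw [e1]; exact S.Nm.mul_mem (hKN hl1 hrL) (S.Nm.mul_mem hw'N (S.e_mem_Nm x))
      have hN2 := S.close hu hM hC hk (L.mul_mem (L.inv_mem hg) hhL) hxu hx0 hxQ hN1
      have hR : r * (w' * S.e x) ∈ S.Rm := e1 ▸ (Subgroup.mem_normalizer_iff.1 hN2.1 _).1 (S.e_mem x)
      have hR' : r * w' ∈ S.Rm := by
        have := S.Rm.mul_mem hR (S.Rm.inv_mem (S.e_mem x))
        rwa [← mul_assoc, mul_inv_cancel_right] at this
      obtain ⟨r₀, hr₀, hsh⟩ := S.shape_of_fix hu hw'N.2 (S.mem_Lu.1 hw'L).2 fun z hz => by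
        have := hmulK ((S.Ku u).inv_mem hl1) (fun z' _ => S.fix_of_mem_Rm hR' z') z hz
        rwa [inv_mul_cancel_left] at this
      have hK' := S.Ku_of_conj hu hM hC hk hg hgN (S.mem_Lu.1 hw'L).1 hr₀ hsh
        (by rw [hw', show g * (g⁻¹ * w * g) * g⁻¹ = w by group]; exact hwN)
      refine hwK ?_
      rwa [show w = g * w' * g⁻¹ by rw [hw']; group, hKc hK' hg, mul_inv_cancel_right]
    · refine ⟨w, hwL, hwN, hw' ▸ hw'fix, hw' ▸ hw'N, hw' ▸ S.perm_eq hw'x, fun d hd => ?_⟩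
      obtain ⟨-, hf⟩ := fromq (P ^ i * ⟨s, hsL⟩) hj (by
        rw [Subgroup.coe_mul, ← hw]; exact S.Nm.mul_mem hwN hsN)
      rw [Subgroup.coe_mul, ← hw] at hf
      have hd' : S.B u (S.tv (p.1 + p.2) d) = 0 := by simp [Quad.tv, hd, hp.u_fst, hp.u_snd]
      have h1 := S.perm_eq (hf _ hd')
      rwa [S.perm_mul hwN hsN, hsp' _ hd', S.tv_tv] at h1
  -- the element does not depend on the involution
  have hp1U : p.1 ∈ S.Uo u l := S.mem_Uo.2 ⟨hp.u_fst, fun q hq =>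
    ⟨(S.B_comm _ _).trans (hpo q hq).1, (S.B_comm _ _).trans (hpo q hq).2.1⟩⟩
  have hp2U : p.2 ∈ S.Uo u l := S.mem_Uo.2 ⟨hp.u_snd, fun q hq =>
    ⟨(S.B_comm _ _).trans (hpo q hq).2.2.1, (S.B_comm _ _).trans (hpo q hq).2.2.2⟩⟩
  obtain ⟨w, hwL, hwN, hw'fix, hw'N, -, hwp⟩ := key hp1U (S.ne_zero_of_B hp.one) hp.fst
  obtain ⟨w', hw'⟩ : ∃ b, b = g⁻¹ * w * g := ⟨_, rfl⟩
  rw [← hw'] at hw'fix hw'N
  have hw'L : w' ∈ L := hw' ▸ L.mul_mem (L.mul_mem (L.inv_mem hg) hwL) hg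
  have hginv : g⁻¹ ∉ S.Nm := fun h => hgN (inv_inv g ▸ S.Nm.inv_mem h)
  have hsing : ∀ {x : V}, x ∈ S.Uo u l → x ≠ 0 → S.Q x = 0 → S.perm w' x = x := by
    intro x hx hx0 hxQ
    obtain ⟨w₂, hw₂L, hw₂N, -, hw₂'N, hw₂x, hw₂p⟩ := key hx hx0 hxQ
    obtain ⟨v, hv⟩ : ∃ v, v = w₂⁻¹ * w := ⟨_, rfl⟩
    have hvL : v ∈ L := hv ▸ L.mul_mem (L.inv_mem hw₂L) hwL
    have hvN : v ∈ S.Nm := hv ▸ S.Nm.mul_mem (S.Nm.inv_mem hw₂N) hwN
    have hvfix : ∀ d, S.B u d = 0 → Pm (v * S.e d * v⁻¹) (S.e d) := fun d hd => by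
      have h1 : S.perm v d = d := by
        rw [hv, S.perm_mul (S.Nm.inv_mem hw₂N) hwN, hwp d hd, ← hw₂p d hd, S.perm_inv_apply hw₂N]
      have h2 := S.perm_spec hvN d
      rwa [h1] at h2
    obtain ⟨r, hr, hsh⟩ := S.shape_of_fix hu hvN.2 (S.mem_Lu.1 hvL).2 hvfix
    have hvK := S.Ku_of_conj hu hM hC hk (L.inv_mem hg) hginv (S.mem_Lu.1 hvL).1 hr hsh (by
      rw [hv, inv_inv, show g⁻¹ * (w₂⁻¹ * w) * g = (g⁻¹ * w₂ * g)⁻¹ * (g⁻¹ * w * g) by group, ← hw']
      exact S.Nm.mul_mem (S.Nm.inv_mem hw₂'N) hw'N)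
    have e : w' = g⁻¹ * w₂ * g * v := by
      rw [hw', mul_assoc (g⁻¹ * w₂), hKc hvK hg, hv]; group
    have hxu := (S.mem_Uo.1 hx).1
    have hvx : S.perm v x = x := S.perm_eq (Or.inl (by rw [(S.mem_Ku.1 hvK).2 x hxu, mul_inv_cancel_right]))
    rw [e, S.perm_mul hw₂'N hvN, hvx, hw₂x]
  have hπu : S.perm w' u = u := S.perm_eq (Or.inl (by rw [(S.mem_Lu.1 hw'L).2, mul_inv_cancel_right]))
  have hUfix : ∀ x ∈ S.Uo u l, S.perm w' x = x := by
    intro x hx
    by_cases hx0 : x = 0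
    · rw [hx0, S.perm_zero hw'N]
    rcases bit (S.Q x) with hQ | hQ
    · exact hsing hx hx0 hQ
    by_cases hxu : x = u
    · rw [hxu, hπu]
    have h1 := hsing (Submodule.add_mem _ hx (S.u_mem_Uo hl)) (fun e => hxu (Quad.eq_of_add_eq_zero e))
      (by rw [S.Q_add, hQ, hu, S.B_comm, (S.mem_Uo.1 hx).1]; decide)
    rw [S.perm_add hw'N, hπu] at h1
    exact add_right_cancel h1
  -- on a pair of the frame
  have hswap : ∀ q ∈ l, S.perm w' q.1 = q.1 ∧ S.perm w' q.2 = q.2 ∨ S.perm w' q.1 = q.2 ∧ S.perm w' q.2 = q.1 := by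
    intro q hq
    have hqI := hl.1 q hq
    obtain ⟨sq, hsqN, hsqv, -, -, hsqp⟩ := S.exists_s hu hqI
    have hcomm : sq * w' = w' * sq := by
      refine Units.ext ?_
      rw [Units.val_mul, Units.val_mul, hsqv, smul_mul_assoc, mul_smul_comm, (hw'fix q hq).eq]
    have img : ∀ v, (v = q.1 ∨ v = q.2) → S.perm w' v = q.1 ∨ S.perm w' v = q.2 := by
      intro v hv
      have hvu : S.B u v = 0 := by rcases hv with rfl | rfl; exacts [hqI.u_fst, hqI.u_snd]
      have hvQ : S.Q v = 0 := by rcases hv with rfl | rfl; exacts [hqI.fst, hqI.snd]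
      have hv0 : v ≠ 0 := by
        rcases hv with rfl | rfl
        exacts [S.ne_zero_of_B hqI.one, S.ne_zero_of_B ((S.B_comm _ _).trans hqI.one)]
      set d := S.perm w' v with hd
      have hdu : S.B u d = 0 := by rw [hd, ← hπu, S.B_perm hw'N, hvu]
      have hdQ : S.Q d = 0 := by rw [hd, S.Q_perm hw'N, hvQ]
      have hd0 : d ≠ 0 := fun e => hv0 (by
        rw [← S.perm_inv_apply hw'N v, ← hd, e, S.perm_zero (S.Nm.inv_mem hw'N)])
      have hdo : ∀ q' ∈ l, q' ≠ q → S.B q'.1 d = 0 ∧ S.B q'.2 d = 0 := by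
        intro q' hq' hne
        have ho := hl.orth_of_ne S hq' hq hne
        have h1 : Commute (S.E v) (S.Sh u q') := S.fixes_e (l := [q']) hvu (fun t ht => by
          rw [List.mem_singleton.1 ht]
          rcases hv with rfl | rfl
          exacts [⟨ho.1, ho.2.2.1⟩, ⟨ho.2.1, ho.2.2.2⟩]) q' (List.mem_singleton_self _)
        have h2 := ((hw'fix q' hq').mul_left h1).mul_left (hw'fix q' hq').units_inv_left
        obtain ⟨γ, hγ, e⟩ := (S.perm_spec hw'N v).smul_val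
        simp only [Units.val_mul] at e
        rw [e, ← hd] at h2
        have hγ0 : γ ≠ 0 := by rcases hγ with rfl | rfl <;> simp
        refine S.perp_of_sh hu (hl.1 q' hq') hdu ?_
        have h3 := h2.eq
        rw [smul_mul_assoc, mul_smul_comm] at h3
        exact smul_right_injective _ hγ0 h3
      have hdU : ∀ y ∈ S.Uo u l, S.B y d = 0 := fun y hy => by
        rw [hd, ← hUfix y hy, S.B_perm hw'N]
        rcases hv with rfl | rfl
        exacts [(S.B_comm _ _).trans ((S.mem_Uo.1 hy).2 q hq).1, (S.B_comm _ _).trans ((S.mem_Uo.1 hy).2 q hq).2]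
      have hba : S.B q.2 q.1 = 1 := (S.B_comm _ _).trans hqI.one
      set e₀ := d + S.B q.2 d • q.1 + S.B q.1 d • q.2 with he₀
      have heU : e₀ ∈ S.Uo u l := by
        refine S.mem_Uo.2 ⟨by simp [he₀, hdu, hqI.u_fst, hqI.u_snd], fun q' hq' => ?_⟩
        by_cases hne : q' = q
        · subst hne
          simp only [he₀, map_add, map_smul, S.B_self, hqI.one, hba, smul_eq_mul, mul_zero, mul_one, add_zero]
          exact ⟨CharTwo.add_self_eq_zero _, CharTwo.add_self_eq_zero _⟩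
        · have ho := hl.orth_of_ne S hq' hq hne
          obtain ⟨h1, h2⟩ := hdo q' hq' hne
          simp [he₀, h1, h2, ho.1, ho.2.1, ho.2.2.1, ho.2.2.2]
      have hedge : e₀ = 0 ∨ e₀ = u := S.radical hl heU fun y hy => by
        obtain ⟨-, hy'⟩ := S.mem_Uo.1 hy
        simp [he₀, hdU y hy, (S.B_comm _ _).trans (hy' q hq).1, (S.B_comm _ _).trans (hy' q hq).2]
      have hd' : d = e₀ + (S.B q.2 d • q.1 + S.B q.1 d • q.2) := by
        rw [he₀, add_assoc d, add_assoc d, Quad.torsion, add_zero]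
      have h2u : S.B q.2 u = 0 := (S.B_comm _ _).trans hqI.u_snd
      have h1u : S.B q.1 u = 0 := (S.B_comm _ _).trans hqI.u_fst
      rcases bit (S.B q.2 d) with b2 | b2 <;> rcases bit (S.B q.1 d) with b1 | b1 <;> rw [b1, b2] at hd' <;>
        simp only [zero_smul, one_smul, add_zero, zero_add] at hd' <;> rcases hedge with e | e <;> rw [e] at hd' <;>
        (try simp only [zero_add] at hd')
      · exact absurd hd' hd0
      · rw [hd', hu] at hdQ; exact absurd hdQ one_ne_zero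
      · exact Or.inr hd'
      · rw [hd', S.Q_add, hu, hqI.snd, hqI.u_snd] at hdQ; exact absurd hdQ (by decide)
      · exact Or.inl hd'
      · rw [hd', S.Q_add, hu, hqI.fst, hqI.u_fst] at hdQ; exact absurd hdQ (by decide)
      · rw [hd', S.Q_add, hqI.fst, hqI.snd, hqI.one] at hdQ; exact absurd hdQ (by decide)
      · -- the sum of the pair and `u` is fixed by the swap
        exfalso
        have h1 : S.perm sq d = d := by
          rw [hsqp d hdu, S.tv_of_zero]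
          rw [S.B_add, b1, b2]; decide
        rw [hd, ← S.perm_mul hsqN hw'N, hcomm, S.perm_mul hw'N hsqN, hsqp v hvu] at h1
        have h3 := congrArg (S.perm w'⁻¹) h1
        rw [S.perm_inv_apply hw'N, S.perm_inv_apply hw'N] at h3
        have hB1 : S.B (q.1 + q.2) v = 1 := by rcases hv with rfl | rfl <;> simp [hqI.one, hba]
        rw [S.tv_of_one hB1, add_eq_left] at h3
        exact S.ne_zero_of_B hB1 h3
    have hinj : S.perm w' q.1 ≠ S.perm w' q.2 := fun e => by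
      have h := congrArg (S.perm w'⁻¹) e
      rw [S.perm_inv_apply hw'N, S.perm_inv_apply hw'N] at h
      have := hqI.one
      rw [h, S.B_self] at this
      exact zero_ne_one this
    rcases img q.1 (Or.inl rfl) with h1 | h1 <;> rcases img q.2 (Or.inr rfl) with h2 | h2
    · exact absurd (h1.trans h2.symm) hinj
    · exact Or.inl ⟨h1, h2⟩
    · exact Or.inr ⟨h1, h2⟩
    · exact absurd (h1.trans h2.symm) hinj
  -- undo the swaps
  let Sw : Subgroup (GL (Idx m) F) := Subgroup.closure {t | ∃ q ∈ l, (t : Mx m F) = (2 : F)⁻¹ • S.Sh u q}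
  have hSw : ∀ t ∈ Sw, t ∈ S.Nm ∧ t * g = g * t ∧ t * S.e u = S.e u * t ∧
      ∀ x ∈ S.Uo u l, S.perm t x = x := by
    intro t ht
    induction ht using Subgroup.closure_induction with
    | mem t ht =>
      obtain ⟨q, hq, ht⟩ := ht
      obtain ⟨sq, hsqN, hsqv, -, hsqu, hsqp⟩ := S.exists_s hu (hl.1 q hq)
      rw [show t = sq from Units.ext (ht.trans hsqv.symm)]
      refine ⟨hsqN, Units.ext ?_, hsqu, fun x hx => ?_⟩
      · rw [Units.val_mul, Units.val_mul, hsqv, smul_mul_assoc, mul_smul_comm, (hfix q hq).eq]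
      · obtain ⟨h0, h1⟩ := S.mem_Uo.1 hx
        rw [hsqp x h0, S.tv_of_zero (by rw [S.B_add, (h1 q hq).1, (h1 q hq).2, add_zero])]
    | one => exact ⟨S.Nm.one_mem, by group, by group, fun x _ => S.perm_one x⟩
    | mul a b _ _ ha hb =>
      exact ⟨S.Nm.mul_mem ha.1 hb.1, (show Commute (a * b) g from (show Commute a g from ha.2.1).mul_left hb.2.1),
        (show Commute (a * b) (S.e u) from (show Commute a (S.e u) from ha.2.2.1).mul_left hb.2.2.1),
        fun x hx => by rw [S.perm_mul ha.1 hb.1, hb.2.2.2 x hx, ha.2.2.2 x hx]⟩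
    | inv a _ ha =>
      refine ⟨S.Nm.inv_mem ha.1, (show Commute a g from ha.2.1).inv_left,
        (show Commute a (S.e u) from ha.2.2.1).inv_left, fun x hx => ?_⟩
      conv_lhs => rw [← ha.2.2.2 x hx]
      rw [S.perm_inv_apply ha.1]
  have undo : ∀ l' : List (V × V), (∀ q ∈ l', q ∈ l) → ∃ P ∈ Sw,
      (∀ q ∈ l', S.perm (P * w') q.1 = q.1 ∧ S.perm (P * w') q.2 = q.2) ∧
      ∀ q ∈ l, S.perm (P * w') q.1 = q.1 ∧ S.perm (P * w') q.2 = q.2 ∨
        S.perm (P * w') q.1 = q.2 ∧ S.perm (P * w') q.2 = q.1 := by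
    intro l'
    induction l' with
    | nil => exact fun _ => ⟨1, Sw.one_mem, by simp, by rw [one_mul]; exact hswap⟩
    | cons t l' ih' =>
      intro hsub
      obtain ⟨P, hP, hP1, hP2⟩ := ih' fun q hq => hsub q (List.mem_cons_of_mem _ hq)
      have htl := hsub t List.mem_cons_self
      rcases hP2 t htl with h | h
      · refine ⟨P, hP, fun q hq => ?_, hP2⟩
        rcases List.mem_cons.1 hq with rfl | hq'
        exacts [h, hP1 q hq']
      obtain ⟨st, hstN, hstv, -, -, hstp⟩ := S.exists_s hu (hl.1 t htl)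
      have hPw : P * w' ∈ S.Nm := S.Nm.mul_mem (hSw P hP).1 hw'N
      have htI := hl.1 t htl
      have hst : ∀ q ∈ l, q ≠ t → S.perm st q.1 = q.1 ∧ S.perm st q.2 = q.2 := fun q hq hne => by
        have ho := hl.orth_of_ne S htl hq hne.symm
        rw [hstp q.1 (hl.1 q hq).u_fst, hstp q.2 (hl.1 q hq).u_snd, S.tv_of_zero, S.tv_of_zero]
        · exact ⟨rfl, rfl⟩
        · rw [S.B_add, ho.2.1, ho.2.2.2, add_zero]
        · rw [S.B_add, ho.1, ho.2.2.1, add_zero]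
      have h12 : S.perm st t.1 = t.2 ∧ S.perm st t.2 = t.1 :=
        ⟨by rw [hstp _ htI.u_fst, S.tv_swap htI.one],
          by rw [hstp _ htI.u_snd, add_comm, S.tv_swap ((S.B_comm _ _).trans htI.one)]⟩
      refine ⟨st * P, Sw.mul_mem (Subgroup.subset_closure ⟨t, htl, hstv⟩) hP, fun q hq => ?_, fun q hq => ?_⟩
      · rw [mul_assoc, S.perm_mul hstN hPw, S.perm_mul hstN hPw]
        by_cases hqt : q = t
        · subst hqt; rw [h.1, h.2]; exact ⟨h12.2, h12.1⟩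
        · have hq' := (List.mem_cons.1 hq).resolve_left hqt
          rw [(hP1 q hq').1, (hP1 q hq').2]
          exact hst q (hsub q hq) hqt
      · rw [mul_assoc, S.perm_mul hstN hPw, S.perm_mul hstN hPw]
        by_cases hqt : q = t
        · subst hqt; rw [h.1, h.2]; exact Or.inl ⟨h12.2, h12.1⟩
        · obtain ⟨e1, e2⟩ := hst q hq hqt
          rcases hP2 q hq with ⟨k1, k2⟩ | ⟨k1, k2⟩ <;> rw [k1, k2, e1, e2]
          exacts [Or.inl ⟨rfl, rfl⟩, Or.inr ⟨rfl, rfl⟩]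
  obtain ⟨P, hP, hP1, -⟩ := undo l fun q hq => hq
  obtain ⟨hPN, hPg, hPu, hPU⟩ := hSw P hP
  have hPL : P ∈ L := S.mem_Lu.2 ⟨hM hPN, hPu⟩
  have hvN : P * w' ∈ S.Nm := S.Nm.mul_mem hPN hw'N
  have hvL : P * w' ∈ L := L.mul_mem hPL hw'L
  have hvfix : ∀ z, S.B u z = 0 → Pm (P * w' * S.e z * (P * w')⁻¹) (S.e z) := by
    intro z hz
    have h1 : S.perm (P * w') z = z := by
      have hsub : Submodule.span (ZMod 2) (Fs l) ⊔ S.Uo u l ≤ LinearMap.eqLocus (S.lin hvN) LinearMap.id := by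
        refine sup_le (Submodule.span_le.2 ?_) fun x hx => ?_
        · rintro v ⟨q, hq, rfl | rfl⟩
          exacts [(hP1 q hq).1, (hP1 q hq).2]
        · show S.perm (P * w') x = x
          rw [S.perm_mul hPN hw'N, hUfix x hx, hPU x hx]
      exact hsub (S.mem_span_sup l hl z hz)
    have h2 := S.perm_spec hvN z
    rwa [h1] at h2
  obtain ⟨r, hr, hsh⟩ := S.shape_of_fix hu hvN.2 (S.mem_Lu.1 hvL).2 hvfix
  have e : g * (P * w') * g⁻¹ = P * w := by rw [← mul_assoc g, ← hPg, hw']; group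
  have hK := S.Ku_of_conj hu hM hC hk hg hgN (S.mem_Lu.1 hvL).1 hr hsh (by
    rw [e]; exact S.Nm.mul_mem hPN hwN)
  rw [hKc hK hg, mul_inv_cancel_right] at e
  have h1 : S.perm (P * w) p.1 = p.1 := by
    rw [← e]; exact S.perm_eq (Or.inl (by rw [(S.mem_Ku.1 hK).2 _ hp.u_fst, mul_inv_cancel_right]))
  rw [S.perm_mul hPN hwN, hwp _ hp.u_fst, hab, hPU _ hp2U] at h1
  exact hne12 h1.symm

theorem good : ∀ (n : ℕ) (l : List (V × V)), S.IsFrame u l → finrank (ZMod 2) (S.Uo u l) = n → S.Good u M l := by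
  intro n
  induction n using Nat.strong_induction_on with
  | _ n ih =>
    intro l hl hn
    by_cases hiso : ∀ a ∈ S.Uo u l, ∀ b ∈ S.Uo u l, S.B a b = 0
    · exact S.good_full hu hM hsp hC hk hl hiso
    push Not at hiso
    obtain ⟨a, ha, b, hb, hab⟩ := hiso
    have hab1 := bit_ne_zero hab
    -- adjust to singular vectors
    have fixQ : ∀ v ∈ S.Uo u l, ∃ v' ∈ S.Uo u l, S.Q v' = 0 ∧ ∀ z, S.B u z = 0 → S.B v' z = S.B v z := by
      intro v hv
      rcases bit (S.Q v) with h | h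
      · exact ⟨v, hv, h, fun z _ => rfl⟩
      · exact ⟨v + u, Submodule.add_mem _ hv (S.u_mem_Uo hl),
          by rw [S.Q_add, h, hu, S.B_comm, (S.mem_Uo.1 hv).1]; decide,
          fun z hz => by rw [S.B_add, hz, add_zero]⟩
    obtain ⟨a', ha', haQ, haB⟩ := fixQ a ha
    obtain ⟨b', hb', hbQ, hbB⟩ := fixQ b hb
    have hau := (S.mem_Uo.1 ha).1
    have hbu := (S.mem_Uo.1 hb').1
    have hab' : S.B a' b' = 1 := by
      rw [haB b' hbu, S.B_comm, hbB a hau, S.B_comm]; exact hab1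
    have hpf : S.IsFrame u ((a', b') :: l) := by
      refine ⟨fun q hq => ?_, List.pairwise_cons.2 ⟨fun q hq => ?_, hl.2⟩⟩
      · rcases List.mem_cons.1 hq with rfl | hq'
        exacts [⟨hab', haQ, hbQ, (S.mem_Uo.1 ha').1, hbu⟩, hl.1 q hq']
      · exact ⟨(S.B_comm _ _).trans ((S.mem_Uo.1 ha').2 q hq).1, (S.B_comm _ _).trans ((S.mem_Uo.1 ha').2 q hq).2,
          (S.B_comm _ _).trans ((S.mem_Uo.1 hb').2 q hq).1, (S.B_comm _ _).trans ((S.mem_Uo.1 hb').2 q hq).2⟩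
    have hlt : S.Uo u ((a', b') :: l) < S.Uo u l := by
      refine lt_of_le_of_ne (fun x hx => ?_) fun e => ?_
      · obtain ⟨h0, h1⟩ := S.mem_Uo.1 hx
        exact S.mem_Uo.2 ⟨h0, fun q hq => h1 q (List.mem_cons_of_mem _ hq)⟩
      · have h1 : b' ∈ S.Uo u ((a', b') :: l) := e ▸ hb'
        have h2 := ((S.mem_Uo.1 h1).2 _ List.mem_cons_self).1
        rw [hab'] at h2
        exact one_ne_zero h2
    exact S.good_step hu hM hsp hC hk hpf (ih _ (hn ▸ Submodule.finrank_lt_finrank_of_lt hlt) _ hpf rfl)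

/-- The centraliser of an element of square minus one. -/
theorem centU {g : GL (Idx m) F} (hg : g ∈ M) (h : Pm (g * S.e u * g⁻¹) (S.e u)) : g ∈ S.Nm := by
  have key : ∀ g ∈ M, g * S.e u = S.e u * g → g ∈ S.Nm := fun g hg h =>
    S.good hu hM hsp hC hk _ [] ⟨by simp, List.Pairwise.nil⟩ rfl g (S.mem_Lu.2 ⟨hg, h⟩) (by simp [Fixes])
  rcases h with h | h <;> rw [mul_inv_eq_iff_eq_mul] at h
  · exact key g hg h
  · obtain ⟨z, hz⟩ := S.exists_B_one (S.ne_zero_of_Q hu)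
    refine (S.Nm.mul_mem_cancel_left (S.e_mem_Nm z)).1 (key _ (M.mul_mem (hM (S.e_mem_Nm z)) hg) ?_)
    rw [mul_assoc, h, neg_mul, mul_neg, ← mul_assoc, S.e_comm z u, S.B_comm, hz, sg_one, neg_one_mul, neg_mul,
      neg_neg, mul_assoc]

end Sys

end CfsgLib.Geo.PauliSp
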