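import Cfsg.Agent.Geo.PauliSp.Close
import Cfsg.Agent.Geo.PauliEight.Global

/-!
Frames of hyperbolic pairs orthogonal to an element of square minus one, their sums and the commutant of a
full frame.
-/

set_option autoImplicit false
set_option linter.unusedSectionVars false
set_option linter.unusedSimpArgs false
set_option linter.style.haveILetI false

namespace CfsgLib.Geo.PauliSp

open Matrix Module
open CfsgLib.Geo.PauliEight (sgn sgn_zero sgn_one quad quad_commute quad_commute_self quad_split)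

variable {m : ℕ} {F : Type*} [Field F] {V : Type*} [AddCommGroup V] [Module (ZMod 2) V] [Fintype V]

namespace Sys

variable (S : Sys m F V)

/-- A singular hyperbolic pair orthogonal to `u`. -/
structure IsPair (u : V) (p : V × V) : Prop where
  one : S.B p.1 p.2 = 1
  fst : S.Q p.1 = 0
  snd : S.Q p.2 = 0
  u_fst : S.B u p.1 = 0
  u_snd : S.B u p.2 = 0

/-- Two pairs are orthogonal. -/
def Orth (p q : V × V) : Prop :=
  S.B p.1 q.1 = 0 ∧ S.B p.1 q.2 = 0 ∧ S.B p.2 q.1 = 0 ∧ S.B p.2 q.2 = 0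

theorem Orth.symm {p q : V × V} (h : S.Orth p q) : S.Orth q p :=
  ⟨(S.B_comm _ _).trans h.1, (S.B_comm _ _).trans h.2.2.1, (S.B_comm _ _).trans h.2.1, (S.B_comm _ _).trans h.2.2.2⟩

/-- A frame. -/
def IsFrame (u : V) (l : List (V × V)) : Prop := (∀ p ∈ l, S.IsPair u p) ∧ l.Pairwise S.Orth

theorem IsFrame.orth_of_ne {u : V} {l : List (V × V)} (hl : S.IsFrame u l) {p q : V × V} (hp : p ∈ l) (hq : q ∈ l)
    (hne : p ≠ q) : S.Orth p q :=
  haveI : Std.Symm S.Orth := ⟨fun _ _ h => Orth.symm S h⟩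
  hl.2.forall hp hq hne

/-- The vectors of a frame. -/
def Fs (l : List (V × V)) : Set V := {v | ∃ p ∈ l, v = p.1 ∨ v = p.2}

/-- The space orthogonal to `u` and a frame. -/
def Uo (u : V) (l : List (V × V)) : Submodule (ZMod 2) V := S.perp (Submodule.span (ZMod 2) (insert u (Fs l)))

theorem mem_Uo {u : V} {l : List (V × V)} {x : V} :
    x ∈ S.Uo u l ↔ S.B u x = 0 ∧ ∀ p ∈ l, S.B p.1 x = 0 ∧ S.B p.2 x = 0 := by
  rw [Uo, S.mem_perp_span]
  constructor
  · intro h
    exact ⟨h u (Set.mem_insert _ _), fun p hp =>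
      ⟨h _ (Or.inr ⟨p, hp, Or.inl rfl⟩), h _ (Or.inr ⟨p, hp, Or.inr rfl⟩)⟩⟩
  · rintro ⟨h0, h⟩ w (rfl | ⟨p, hp, rfl | rfl⟩)
    exacts [h0, (h p hp).1, (h p hp).2]

theorem u_mem_Uo {u : V} {l : List (V × V)} (hl : S.IsFrame u l) : u ∈ S.Uo u l :=
  S.mem_Uo.2 ⟨S.B_self u, fun p hp =>
    ⟨(S.B_comm _ _).trans (hl.1 p hp).u_fst, (S.B_comm _ _).trans (hl.1 p hp).u_snd⟩⟩

theorem mem_span_sup {u : V} : ∀ (l : List (V × V)), S.IsFrame u l → ∀ z, S.B u z = 0 →
    z ∈ Submodule.span (ZMod 2) (Fs l) ⊔ S.Uo u l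
  | [], _, z, hz => Submodule.mem_sup_right (S.mem_Uo.2 ⟨hz, by simp⟩)
  | p :: l, hl, z, hz => by
    have hl' : S.IsFrame u l := ⟨fun q hq => hl.1 q (List.mem_cons_of_mem _ hq), (List.pairwise_cons.1 hl.2).2⟩
    obtain ⟨f, hf, w, hw, rfl⟩ := Submodule.mem_sup.1 (mem_span_sup l hl' z hz)
    have hp := hl.1 p List.mem_cons_self
    have hba : S.B p.2 p.1 = 1 := (S.B_comm _ _).trans hp.one
    obtain ⟨hwu, hwl⟩ := S.mem_Uo.1 hw
    set c := S.B p.2 w • p.1 + S.B p.1 w • p.2 with hc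
    have hcmem : c ∈ Submodule.span (ZMod 2) (Fs (p :: l)) :=
      Submodule.add_mem _ (Submodule.smul_mem _ _ (Submodule.subset_span ⟨p, List.mem_cons_self, Or.inl rfl⟩))
        (Submodule.smul_mem _ _ (Submodule.subset_span ⟨p, List.mem_cons_self, Or.inr rfl⟩))
    have hw' : w + c ∈ S.Uo u (p :: l) := by
      refine S.mem_Uo.2 ⟨by simp [hc, hwu, hp.u_fst, hp.u_snd], fun q hq => ?_⟩
      rcases List.mem_cons.1 hq with rfl | hq'
      · simp only [hc, map_add, map_smul, S.B_self, hp.one, hba, smul_eq_mul, mul_zero, mul_one, add_zero, zero_add]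
        exact ⟨CharTwo.add_self_eq_zero _, CharTwo.add_self_eq_zero _⟩
      · have ho : S.Orth q p := Orth.symm S ((List.pairwise_cons.1 hl.2).1 q hq')
        simp [hc, (hwl q hq').1, (hwl q hq').2, ho.1, ho.2.1, ho.2.2.1, ho.2.2.2]
    refine Submodule.mem_sup.2 ⟨f + c, Submodule.add_mem _ ?_ hcmem, w + c, hw', ?_⟩
    · refine Submodule.span_mono (fun v hv => ?_) hf
      obtain ⟨q, hq, e⟩ := hv
      exact ⟨q, List.mem_cons_of_mem _ hq, e⟩
    · rw [add_add_add_comm, Quad.torsion, add_zero]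

theorem radical {u : V} {l : List (V × V)} (hl : S.IsFrame u l) {x : V} (hx : x ∈ S.Uo u l)
    (h : ∀ y ∈ S.Uo u l, S.B y x = 0) : x = 0 ∨ x = u := by
  refine S.eq_of_perp_all fun z hz => ?_
  obtain ⟨f, hf, y, hy, rfl⟩ := Submodule.mem_sup.1 (S.mem_span_sup l hl z hz)
  rw [S.B_add, h y hy, add_zero]
  refine (Submodule.span_le (p := LinearMap.ker (S.B.flip x))).2 ?_ hf
  rintro v ⟨p, hp, rfl | rfl⟩
  exacts [LinearMap.mem_ker.2 ((S.mem_Uo.1 hx).2 p hp).1, LinearMap.mem_ker.2 ((S.mem_Uo.1 hx).2 p hp).2]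

/-- The sum attached to a pair. -/
def Sh (u : V) (p : V × V) : Mx m F := (1 + S.E u) * (S.E p.1 + S.E p.2)

theorem cancel_u {u : V} (hu : S.Q u = 1) {X Y : Mx m F} (h : (1 + S.E u) * X = (1 + S.E u) * Y) : X = Y := by
  have e : (1 - S.E u) * (1 + S.E u) = (2 : F) • (1 : Mx m F) := by
    rw [sub_mul, one_mul, mul_add, mul_one, S.E_sq, hu, sgn_one, neg_one_smul, two_smul]
    abel
  have h' := congrArg ((1 - S.E u) * ·) h
  simp only [← mul_assoc, e, smul_mul_assoc, one_mul] at h'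
  exact smul_right_injective _ S.two h'

theorem comm_pair_of_sh {u : V} (hu : S.Q u = 1) {p : V × V} {A : Mx m F} (hAu : A * S.E u = S.E u * A)
    (h : A * S.Sh u p = S.Sh u p * A) : A * (S.E p.1 + S.E p.2) = (S.E p.1 + S.E p.2) * A := by
  refine S.cancel_u hu ?_
  have e : Commute A (1 + S.E u) := (Commute.one_right _).add_right hAu
  rw [Sh, ← mul_assoc, e.eq, mul_assoc, mul_assoc] at h
  exact h

theorem sh_E {u : V} {p : V × V} {d : V} {ε : ZMod 2} (hd : S.B u d = 0) (h1 : S.B p.1 d = ε) (h2 : S.B p.2 d = ε) :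
    S.Sh u p * S.E d = sgn F ε • (S.E d * S.Sh u p) := by
  have e : Commute (S.E d) (1 + S.E u) := (Commute.one_right _).add_right
    (by show _ = _; rw [S.E_comm d u, S.B_comm, hd, sgn_zero, one_smul])
  rw [Sh, mul_assoc, add_mul (S.E p.1), S.E_comm p.1 d, S.E_comm p.2 d, h1, h2, ← smul_add, mul_smul_comm, ← mul_add,
    ← mul_assoc, ← e.eq, mul_assoc]

theorem perp_of_sh {u : V} (hu : S.Q u = 1) {p : V × V} (hp : S.IsPair u p) {d : V} (hd : S.B u d = 0)
    (h : S.E d * S.Sh u p = S.Sh u p * S.E d) : S.B p.1 d = 0 ∧ S.B p.2 d = 0 := by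
  classical
  have h' := S.comm_pair_of_sh hu (by rw [S.E_comm d u, S.B_comm, hd, sgn_zero, one_smul]) h
  rw [mul_add, add_mul, S.E_comm p.1 d, S.E_comm p.2 d] at h'
  obtain ⟨γ, hγ, e1⟩ := S.E_mul d p.1
  obtain ⟨δ, hδ, e2⟩ := S.E_mul d p.2
  rw [e1, e2] at h'
  have hne : d + p.1 ≠ d + p.2 := fun e => by
    have := hp.one
    rw [add_left_cancel e, S.B_self] at this
    exact zero_ne_one this
  have c1 := congrArg (S.coef (d + p.1)) h'
  have c2 := congrArg (S.coef (d + p.2)) h'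
  simp only [map_add, map_smul, S.coef_E, smul_eq_mul, if_pos, if_neg hne, if_neg hne.symm, mul_one, mul_zero,
    add_zero, zero_add] at c1 c2
  have hγ0 : γ ≠ 0 := by rcases hγ with rfl | rfl <;> simp
  have hδ0 : δ ≠ 0 := by rcases hδ with rfl | rfl <;> simp
  constructor
  · by_contra hne'
    rw [bit_ne_zero hne', sgn_one] at c1
    exact hγ0 ((mul_eq_zero.1 (show (2 : F) * γ = 0 by linear_combination c1)).resolve_left S.two)
  · by_contra hne'
    rw [bit_ne_zero hne', sgn_one] at c2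
    exact hδ0 ((mul_eq_zero.1 (show (2 : F) * δ = 0 by linear_combination c2)).resolve_left S.two)

theorem sh_comm {u : V} {p q : V × V} (hp : S.IsPair u p) (hq : S.IsPair u q) (ho : S.Orth p q) :
    S.Sh u p * S.Sh u q = S.Sh u q * S.Sh u p := by
  have key : ∀ d, S.B u d = 0 → S.B p.1 d = 0 → S.B p.2 d = 0 → Commute (S.Sh u p) (S.E d) := fun d h0 h1 h2 => by
    show _ = _
    rw [S.sh_E h0 h1 h2, sgn_zero, one_smul]
  have hu' : Commute (S.Sh u p) (S.E u) := key u (S.B_self u) ((S.B_comm _ _).trans hp.u_fst)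
    ((S.B_comm _ _).trans hp.u_snd)
  exact (((Commute.one_right _).add_right hu').mul_right
    ((key _ hq.u_fst ho.1 ho.2.2.1).add_right (key _ hq.u_snd ho.2.1 ho.2.2.2))).eq

theorem E_sq_one {x : V} (hx : S.Q x = 0) : S.E x * S.E x = 1 := by rw [S.E_sq, hx, sgn_zero, one_smul]

theorem exists_s [Finite F] {u : V} (hu : S.Q u = 1) {p : V × V} (hp : S.IsPair u p) :
    ∃ s ∈ S.Nm, (s : Mx m F) = (2 : F)⁻¹ • S.Sh u p ∧ s * s = S.e u ∧ s * S.e u = S.e u * s ∧
      ∀ d, S.B u d = 0 → S.perm s d = S.tv (p.1 + p.2) d := by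
  have hab : S.Q (p.1 + p.2) = 1 := by rw [S.Q_add, hp.fst, hp.snd, hp.one]; decide
  obtain ⟨g, hg, hgv, hgp⟩ := S.exists_gate (r := S.e p.1 * S.e p.2) (s := S.e u) (S.e_add _ _) hab (Pm.refl _) hu
  have hAu : Commute (S.E p.1) (S.E u) := by
    show _ = _; rw [S.E_comm p.1 u, S.B_comm, hp.u_fst, sgn_zero, one_smul]
  have hBu : Commute (S.E p.2) (S.E u) := by
    show _ = _; rw [S.E_comm p.2 u, S.B_comm, hp.u_snd, sgn_zero, one_smul]
  have hval : ((S.e p.1 * g : GL (Idx m) F) : Mx m F) = (2 : F)⁻¹ • S.Sh u p := by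
    rw [Units.val_mul, hgv, Units.val_mul, mul_smul_comm]
    congr 1
    show S.E p.1 * ((1 + S.E u) * (1 + S.E p.1 * S.E p.2)) = _
    rw [← mul_assoc, ((Commute.one_right _).add_right hAu).eq, mul_assoc, mul_add, mul_one, ← mul_assoc (S.E p.1),
      S.E_sq_one hp.fst, one_mul]
    rfl
  have hC : Commute (S.E p.1 + S.E p.2) (1 + S.E u) :=
    ((Commute.one_right _).add_right hAu).add_left ((Commute.one_right _).add_right hBu)
  refine ⟨S.e p.1 * g, S.Nm.mul_mem (S.e_mem_Nm _) hg, hval, Units.ext ?_, Units.ext ?_, fun d hd => ?_⟩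
  · have e1 : (S.E p.1 + S.E p.2) * (S.E p.1 + S.E p.2) = (2 : F) • (1 : Mx m F) := by
      rw [add_mul, mul_add, mul_add, S.E_sq_one hp.fst, S.E_sq_one hp.snd, S.E_comm p.2 p.1, S.B_comm, hp.one,
        sgn_one, neg_one_smul, two_smul]
      abel
    have e2 : (1 + S.E u) * (1 + S.E u) = (2 : F) • S.E u := by
      rw [add_mul, mul_add, mul_add, one_mul, one_mul, mul_one, S.E_sq, hu, sgn_one, neg_one_smul, two_smul]
      abel
    rw [Units.val_mul, hval, smul_mul_smul_comm, Sh, mul_assoc, ← mul_assoc (S.E p.1 + S.E p.2), hC.eq, mul_assoc,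
      ← mul_assoc (1 + S.E u), e2, e1, smul_mul_smul_comm, mul_one, smul_smul]
    rw [show (2 : F)⁻¹ * 2⁻¹ * (2 * 2) = 1 by field_simp [S.two], one_smul]
  · rw [Units.val_mul, Units.val_mul _ (S.e p.1 * g), hval, smul_mul_assoc, mul_smul_comm]
    congr 1
    exact (((Commute.one_right _).add_right (Commute.refl (S.E u))).mul_right
      ((hAu.symm).add_right hBu.symm)).eq.symm
  · rw [S.perm_mul (S.e_mem_Nm _) hg, hgp, S.perm_e]
    refine S.tv_of_zero ?_
    simp [Quad.tv, hd, hp.u_fst, hp.u_snd]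

/-- Matrices commuting with a full frame commute with one another. -/
theorem commute_of_frame [Finite F] {u : V} (hu : S.Q u = 1) : ∀ (l : List (V × V)) (D : List V), S.IsFrame u l →
    (∀ p ∈ l, ∀ x ∈ D, S.B x p.1 = 0 ∧ S.B x p.2 = 0) →
    (∀ w, (∀ x ∈ D, S.B x w = 0) → w ∈ S.Uo u l → w = 0 ∨ w = u) →
    ∀ f g : Mx m F, f * S.E u = S.E u * f → g * S.E u = S.E u * g → (∀ x ∈ D, Commute f (S.E x)) →
      (∀ p ∈ l, Commute f (S.E p.1 + S.E p.2)) → (∀ p ∈ l, Commute g (S.E p.1 + S.E p.2)) → f * g = g * f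
  | [], D, _, _, hspan, f, g, hfu, hgu, hfD, _, _ => by
    classical
    have hne : ∀ y, S.coef y f ≠ 0 → y = 0 ∨ y = u := by
      intro y hy
      have key : ∀ x, f * S.E x = S.E x * f → S.B x y = 0 := fun x hx => by
        by_contra hne
        have h1 := S.coef_cj x y f
        rw [PauliEight.cj_of_comm hx.symm, bit_ne_zero hne, sgn_one] at h1
        exact hy ((mul_eq_zero.1 (show (2 : F) * S.coef y f = 0 by linear_combination h1)).resolve_left S.two)
      exact hspan y (fun x hx => key x (hfD x hx).eq) (S.mem_Uo.2 ⟨key u hfu, by simp⟩)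
    have hf : f = S.coef 0 f • 1 + S.coef u f • S.E u := by
      conv_lhs => rw [← S.sum_coef f]
      rw [Finset.sum_eq_add 0 u (fun e => S.ne_zero_of_Q hu e.symm) (fun y _ hy => ?_) (by simp) (by simp), S.E_zero]
      by_contra h0
      exact (hne y fun e => h0 (by rw [e, zero_smul])).elim hy.1 hy.2
    rw [hf, add_mul, mul_add, smul_mul_assoc, mul_smul_comm, one_mul, mul_one, smul_mul_assoc, mul_smul_comm, hgu]
  | p :: l, D, hl, horth, hspan, f, g, hfu, hgu, hfD, hfl, hgl => by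
    have hp := hl.1 p List.mem_cons_self
    have hl' : S.IsFrame u l := ⟨fun q hq => hl.1 q (List.mem_cons_of_mem _ hq), (List.pairwise_cons.1 hl.2).2⟩
    set A := S.E p.1 with hA
    set B := S.E p.2 with hB
    have hAB : B * A = -(A * B) := by
      rw [hA, hB, S.E_comm p.2 p.1, S.B_comm, hp.one, sgn_one, neg_one_smul]
    have hcomm : ∀ {a b : V}, S.B a b = 0 → Commute (S.E a) (S.E b) := fun {a b} h => by
      show _ = _; rw [S.E_comm a b, h, sgn_zero, one_smul]
    have hq : ∀ {q}, q ∈ l → Commute A (S.E q.1 + S.E q.2) ∧ Commute B (S.E q.1 + S.E q.2) := by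
      intro q hq
      have ho := (List.pairwise_cons.1 hl.2).1 q hq
      exact ⟨(hcomm ho.1).add_right (hcomm ho.2.1), (hcomm ho.2.2.1).add_right (hcomm ho.2.2.2)⟩
    have hD : ∀ {x}, x ∈ D → Commute A (S.E x) ∧ Commute B (S.E x) := fun {x} hx => by
      obtain ⟨h1, h2⟩ := horth p List.mem_cons_self x hx
      exact ⟨hcomm ((S.B_comm _ _).trans h1), hcomm ((S.B_comm _ _).trans h2)⟩
    have hAu : Commute A (S.E u) := hcomm ((S.B_comm _ _).trans hp.u_fst)
    have hBu : Commute B (S.E u) := hcomm ((S.B_comm _ _).trans hp.u_snd)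
    have hAA : A * A = 1 := S.E_sq_one hp.fst
    have hBB : B * B = 1 := S.E_sq_one hp.snd
    have rec_ : ∀ w : Mx m F, w * S.E u = S.E u * w → (∀ x ∈ D, Commute w (S.E x)) →
        (∀ q ∈ l, Commute w (S.E q.1 + S.E q.2)) → quad A B w * g = g * quad A B w := by
      intro w hwu hwD hwl
      refine commute_of_frame hu l (p.1 :: p.2 :: D) hl' (fun q hq' x hx => ?_) (fun v hv hvl => ?_) _ g
        (quad_commute hAu hBu hwu).eq hgu (fun x hx => ?_) (fun q hq' => quad_commute (hq hq').1 (hq hq').2 (hwl q hq'))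
        (fun q hq' => hgl q (List.mem_cons_of_mem _ hq'))
      · have ho := (List.pairwise_cons.1 hl.2).1 q hq'
        rcases List.mem_cons.1 hx with rfl | hx
        · exact ⟨ho.1, ho.2.1⟩
        rcases List.mem_cons.1 hx with rfl | hx
        · exact ⟨ho.2.2.1, ho.2.2.2⟩
        exact horth q (List.mem_cons_of_mem _ hq') x hx
      · obtain ⟨hvu, hvl'⟩ := S.mem_Uo.1 hvl
        refine hspan v (fun x hx => hv x (List.mem_cons_of_mem _ (List.mem_cons_of_mem _ hx)))
          (S.mem_Uo.2 ⟨hvu, fun q hq' => ?_⟩)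
        rcases List.mem_cons.1 hq' with rfl | hq''
        · exact ⟨hv _ List.mem_cons_self, hv _ (List.mem_cons_of_mem _ List.mem_cons_self)⟩
        · exact hvl' q hq''
      · rcases List.mem_cons.1 hx with rfl | hx
        · exact (quad_commute_self hAA hBB hAB w).1
        rcases List.mem_cons.1 hx with rfl | hx
        · exact (quad_commute_self hAA hBB hAB w).2
        exact quad_commute (hD hx).1 (hD hx).2 (hwD x hx)
    have hfs : Commute f (A + B) := hfl p List.mem_cons_self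
    have hgs : Commute g (A + B) := hgl p List.mem_cons_self
    have hsl : ∀ q ∈ l, Commute (A + B) (S.E q.1 + S.E q.2) := fun q hq' => (hq hq').1.add_left (hq hq').2
    have c0 : Commute (quad A B f) g := rec_ f hfu hfD fun q hq' => hfl q (List.mem_cons_of_mem _ hq')
    have c1 : Commute (quad A B (f * (A + B))) g :=
      rec_ _ ((Commute.mul_left (hfu : Commute f (S.E u)) (hAu.add_left hBu)).eq)
        (fun x hx => (hfD x hx).mul_left ((hD hx).1.add_left (hD hx).2))
        fun q hq' => (hfl q (List.mem_cons_of_mem _ hq')).mul_left (hsl q hq')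
    have e := quad_split (r := (1 : F)) (f := f) hAA hBB hAB (mul_one 1) (by rw [one_smul]; exact hfs.eq)
    rw [one_smul] at e
    have c2 : Commute ((8 : F) • f) g := by
      rw [e]
      exact (c0.smul_left _).add_left (c1.mul_left hgs.symm)
    have h8 : (8 : F) ≠ 0 := by
      rw [show (8 : F) = 2 * 2 * 2 by norm_num]
      exact mul_ne_zero (mul_ne_zero S.two S.two) S.two
    exact smul_right_injective _ h8 (show (8 : F) • (f * g) = (8 : F) • (g * f) by
      rw [← smul_mul_assoc, c2.eq, mul_smul_comm])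

end Sys

end CfsgLib.Geo.PauliSp
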