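import Cfsg.Agent.Geo.PauliSp.Sys

/-!
Elements of the monomial normaliser inducing products of two transvections, and transitivity on vectors with
the same value of the quadratic form.
-/

set_option autoImplicit false
set_option linter.unusedSectionVars false
set_option linter.unusedSimpArgs false

namespace CfsgLib.Geo.PauliSp

open Matrix Module
open CfsgLib.Geo.PauliEight (sgn sgn_zero sgn_one sgn_mul sgn_sq sgn_inj cj cj_mul cj_smul cj_comp cj_of_smul
  cj_eq_self cj_of_comm cj_eq_of_mul cj_inv_cj cj_cj_inv cj_coe)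

theorem pm_of_cj {m : ℕ} {F : Type*} [Field F] {g a b : GL (Idx m) F} {c : F} (hc : c = 1 ∨ c = -1)
    (h : cj g (a : Mx m F) = c • (b : Mx m F)) : Pm (g * a * g⁻¹) b := by
  rw [cj_coe] at h
  rcases hc with rfl | rfl
  · exact Or.inl (Units.ext (by rw [h, one_smul]))
  · exact Or.inr (Units.ext (by rw [h, neg_one_smul, Units.val_neg]))

namespace Quad

variable {V : Type*} [AddCommGroup V] [Module (ZMod 2) V] [Finite V] (S : Quad V)

/-- The transvection of a vector. -/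
def tv (r x : V) : V := x + S.B r x • r

theorem tv_of_zero {r x : V} (h : S.B r x = 0) : S.tv r x = x := by rw [tv, h, zero_smul, add_zero]

theorem tv_of_one {r x : V} (h : S.B r x = 1) : S.tv r x = x + r := by rw [tv, h, one_smul]

theorem tv_tv (r x : V) : S.tv r (S.tv r x) = x := by
  rcases bit (S.B r x) with h | h
  · rw [S.tv_of_zero h, S.tv_of_zero h]
  · rw [S.tv_of_one h, S.tv_of_one (by rw [S.B_add', h, S.B_self, add_zero]), add_assoc, torsion, add_zero]

theorem tv_add (r x y : V) : S.tv r (x + y) = S.tv r x + S.tv r y := by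
  rw [tv, tv, tv, S.B_add', add_smul]
  abel

end Quad

namespace Sys

variable {m : ℕ} {F : Type*} [Field F] {V : Type*} [AddCommGroup V] [Module (ZMod 2) V] [Fintype V]
  (S : Sys m F V)

/-- The unit `1 + r` for an element of square minus one. -/
noncomputable def onep (r : GL (Idx m) F) (hr : r * r = -1) (h2 : (2 : F) ≠ 0) : GL (Idx m) F :=
  ⟨1 + (r : Mx m F), (2 : F)⁻¹ • (1 - (r : Mx m F)), by
    have h := congrArg Units.val hr
    rw [Units.val_mul, Units.val_neg, Units.val_one] at h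
    rw [mul_smul_comm, add_mul, one_mul, mul_sub, mul_one, h,
      show (1 : Mx m F) - r + (r - -1) = (2 : F) • 1 by rw [two_smul]; abel, smul_smul, inv_mul_cancel₀ h2, one_smul],
    by
    have h := congrArg Units.val hr
    rw [Units.val_mul, Units.val_neg, Units.val_one] at h
    rw [smul_mul_assoc, sub_mul, one_mul, mul_add, mul_one, h,
      show (1 : Mx m F) + r - (r + -1) = (2 : F) • 1 by rw [two_smul]; abel, smul_smul, inv_mul_cancel₀ h2, one_smul]⟩

theorem onep_val {r : GL (Idx m) F} (hr : r * r = -1) (h2 : (2 : F) ≠ 0) :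
    ((onep r hr h2 : GL (Idx m) F) : Mx m F) = 1 + (r : Mx m F) := rfl

theorem sq_of_pm {r : GL (Idx m) F} {v : V} (h : Pm r (S.e v)) (hv : S.Q v = 1) : r * r = -1 := by
  rcases h with rfl | rfl <;> simp [S.e_sq, hv]

theorem onep_conj {r : GL (Idx m) F} {v : V} (h : Pm r (S.e v)) (hv : S.Q v = 1) (x : V) :
    Pm (onep r (S.sq_of_pm h hv) S.two * S.e x * (onep r (S.sq_of_pm h hv) S.two)⁻¹) (S.e (S.tv v x)) := by
  obtain ⟨γ, hγ, hr⟩ := h.smul_val
  have hEE : S.E v * S.E v = -1 := by rw [S.E_sq, hv, sgn_one, neg_one_smul]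
  have hγγ : γ * γ = 1 := by rcases hγ with rfl | rfl <;> ring
  rcases bit (S.B v x) with hB | hB
  · rw [S.tv_of_zero hB]
    refine pm_of_cj (c := 1) (Or.inl rfl) ?_
    rw [one_smul]
    refine cj_of_comm ?_
    rw [onep_val, hr, add_mul, mul_add, one_mul, mul_one, smul_mul_assoc, mul_smul_comm,
      S.E_comm v x, hB, sgn_zero, one_smul]
  · rw [S.tv_of_one hB]
    obtain ⟨c, hc, hcx⟩ := S.E_mul v x
    rw [add_comm v x] at hcx
    refine pm_of_cj (c := γ * c) (by rcases hγ with rfl | rfl <;> rcases hc with rfl | rfl <;> simp) ?_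
    refine cj_eq_of_mul ?_
    have hvx : S.E v * S.E x = -(S.E x * S.E v) := by rw [S.E_comm v x, hB, sgn_one, neg_one_smul]
    have e1 : S.E v * S.E x * S.E v = S.E x := by rw [hvx, neg_mul, mul_assoc, hEE, mul_neg, mul_one, neg_neg]
    rw [onep_val, hr, ← smul_smul, ← hcx, add_mul, one_mul, smul_mul_assoc, smul_mul_assoc, mul_add, mul_one,
      mul_smul_comm, e1, smul_add, smul_smul, hγγ, one_smul, add_comm]

theorem exists_gate [Finite F] {r s : GL (Idx m) F} {v w : V} (hr : Pm r (S.e v)) (hv : S.Q v = 1)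
    (hs : Pm s (S.e w)) (hw : S.Q w = 1) :
    ∃ g ∈ S.Nm, (g : Mx m F) = (2 : F)⁻¹ • ((1 + (s : Mx m F)) * (1 + (r : Mx m F))) ∧
      ∀ x, S.perm g x = S.tv w (S.tv v x) := by
  set a := onep s (S.sq_of_pm hs hw) S.two with ha
  set b := onep r (S.sq_of_pm hr hv) S.two with hb
  let c : GL (Idx m) F := Units.map (algebraMap F (Mx m F)).toMonoidHom (Units.mk0 (2 : F)⁻¹ (inv_ne_zero S.two))
  have hc : (c : Mx m F) = (2 : F)⁻¹ • 1 := Algebra.algebraMap_eq_smul_one (2 : F)⁻¹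
  have hval : ((c * (a * b) : GL (Idx m) F) : Mx m F) = (2 : F)⁻¹ • ((1 + (s : Mx m F)) * (1 + (r : Mx m F))) := by
    rw [Units.val_mul, hc, smul_mul_assoc, one_mul, Units.val_mul]
    rfl
  have hconj : ∀ x, Pm (c * (a * b) * S.e x * (c * (a * b))⁻¹) (S.e (S.tv w (S.tv v x))) := by
    intro x
    have h1 : c * (a * b) * S.e x * (c * (a * b))⁻¹ = a * (b * S.e x * b⁻¹) * a⁻¹ := by
      refine Units.ext ?_
      rw [← cj_coe, cj_of_smul (g := c * (a * b)) (h := a * b) (by rw [Units.val_mul, hc, smul_mul_assoc, one_mul]),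
        cj_coe]
      congr 1
      group
    rw [h1]
    exact ((S.onep_conj hr hv x).conj a).trans (S.onep_conj hs hw _)
  have hT : ∀ {t : GL (Idx m) F} {z : V}, Pm t (S.e z) → S.Q z = 1 →
      (1 + (t : Mx m F))ᵀ * Matrix.J (Fin m) F * (1 + (t : Mx m F)) = (2 : F) • Matrix.J (Fin m) F := by
    intro t z ht hz
    have ht2 := S.sq_of_pm ht hz
    have hinv : t⁻¹ = -t := inv_eq_of_mul_eq_one_right (by rw [mul_neg, ht2, neg_neg])
    have htt := congrArg Units.val ht2
    rw [Units.val_mul, Units.val_neg, Units.val_one] at htt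
    rw [Matrix.transpose_add, Matrix.transpose_one, add_mul (1 : Mx m F), one_mul,
      transpose_J ((mem_iff_of_pm neg_one_mem_sp ht).2 (S.mem z)), hinv, Units.val_neg]
    simp only [add_mul, mul_add, mul_one, mul_neg, neg_mul, mul_assoc, htt, neg_neg]
    rw [two_smul]
    abel
  have hsp : c * (a * b) ∈ Cfsg.spGL m F := by
    rw [SpEight.mem_spGL_iff, hval, Matrix.transpose_smul, Matrix.transpose_mul, smul_mul_assoc, smul_mul_assoc,
      mul_smul_comm, smul_smul]
    have e : (1 + (r : Mx m F))ᵀ * (1 + (s : Mx m F))ᵀ * Matrix.J (Fin m) F * ((1 + (s : Mx m F)) * (1 + (r : Mx m F))) =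
        (1 + (r : Mx m F))ᵀ * ((1 + (s : Mx m F))ᵀ * Matrix.J (Fin m) F * (1 + (s : Mx m F))) * (1 + (r : Mx m F)) := by
      simp only [mul_assoc]
    rw [e, hT hs hw, mul_smul_comm, smul_mul_assoc, hT hr hv, smul_smul, smul_smul,
      show (2 : F)⁻¹ * 2⁻¹ * 2 * 2 = 1 by field_simp [S.two], one_smul]
  exact ⟨_, S.mem_Nm_of hsp fun x => ⟨_, hconj x⟩, hval, fun x => S.perm_eq (hconj x)⟩

theorem tv_swap {x y : V} (h : S.B x y = 1) : S.tv (x + y) x = y := by
  rw [S.tv_of_one (by rw [S.B_add, S.B_self, S.B_comm, h, zero_add]), Quad.add_cancel']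

theorem move_of_B [Finite F] (hk : 1 ≤ S.k) {x y : V} (hxy : S.B x y = 1) (hQ : S.Q x = S.Q y) :
    ∃ h ∈ S.Nm, S.perm h x = y := by
  have hr : S.Q (x + y) = 1 := by
    rw [S.Q_add, hQ, hxy]
    generalize S.Q y = a; revert a; decide
  obtain ⟨s, hs, hsQ⟩ := S.exists_nonsing (U := S.perp (Submodule.span (ZMod 2) {y})) (by
    have h1 := S.finrank_perp (Submodule.span (ZMod 2) {y})
    rw [finrank_span_singleton (S.ne_zero_of_B ((S.B_comm y x).trans hxy))] at h1
    omega)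
  obtain ⟨g, hg, -, hgp⟩ := S.exists_gate (Pm.refl (S.e (x + y))) hr (Pm.refl (S.e s)) hsQ
  refine ⟨g, hg, ?_⟩
  rw [hgp, S.tv_swap hxy, S.tv_of_zero]
  rw [S.B_comm]
  exact (S.mem_perp_span).1 hs y rfl

theorem exists_B_two {x y : V} (hx : x ≠ 0) (hy : y ≠ 0) :
    ∃ z, S.B x z = 1 ∧ S.B y z = 1 := by
  obtain ⟨a, ha⟩ := S.exists_B_one hx
  obtain ⟨b, hb⟩ := S.exists_B_one hy
  rcases bit (S.B y a) with h1 | h1
  · rcases bit (S.B x b) with h2 | h2
    · exact ⟨a + b, by rw [S.B_add', ha, h2, add_zero], by rw [S.B_add', h1, hb, zero_add]⟩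
    · exact ⟨b, h2, hb⟩
  · exact ⟨a, ha, h1⟩

/-- The normaliser is transitive on nonzero vectors with one value of the form. -/
theorem move [Finite F] (hk : 3 ≤ S.k) {x y : V} (hx : x ≠ 0) (hy : y ≠ 0) (hQ : S.Q x = S.Q y) :
    ∃ h ∈ S.Nm, S.perm h x = y := by
  rcases eq_or_ne x y with rfl | hne
  · exact ⟨1, S.Nm.one_mem, S.perm_one x⟩
  rcases bit (S.B x y) with hB | hB
  swap
  · exact S.move_of_B (by omega) hB hQ
  obtain ⟨z₀, hz₀x, hz₀y⟩ := S.exists_B_two hx hy
  obtain ⟨a, ha, b, hb, hab⟩ := S.exists_hyp_pair (U := S.perp (Submodule.span (ZMod 2) ({x, y} : Set V))) (by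
    have := S.finrank_perp_two x y
    omega)
  obtain ⟨w, hw, hwQ⟩ := S.two_values ha hb hab z₀ (S.Q x)
  obtain ⟨hwx, hwy⟩ := S.mem_perp_pair.1 hw
  obtain ⟨h1, hh1, e1⟩ := S.move_of_B (by omega) (x := x) (y := z₀ + w)
    (by rw [S.B_add', hz₀x, hwx, add_zero]) hwQ.symm
  obtain ⟨h2, hh2, e2⟩ := S.move_of_B (by omega) (x := z₀ + w) (y := y)
    (by rw [S.B_comm, S.B_add', hz₀y, hwy, add_zero]) (hwQ.trans hQ)
  exact ⟨h2 * h1, S.Nm.mul_mem hh2 hh1, by rw [S.perm_mul hh2 hh1, e1, e2]⟩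

theorem move_exact [Finite F] (hk : 3 ≤ S.k) {x y : V} (hx : x ≠ 0) (hy : y ≠ 0) (hQ : S.Q x = S.Q y) :
    ∃ h ∈ S.Nm, h * S.e x * h⁻¹ = S.e y := by
  obtain ⟨h, hh, e⟩ := S.move hk hx hy hQ
  rcases e ▸ S.perm_spec hh x with h1 | h1
  · exact ⟨h, hh, h1⟩
  obtain ⟨z, hz⟩ := S.exists_B_one hy
  refine ⟨S.e z * h, S.Nm.mul_mem (S.e_mem_Nm z) hh, ?_⟩
  rw [show S.e z * h * S.e x * (S.e z * h)⁻¹ = S.e z * (h * S.e x * h⁻¹) * (S.e z)⁻¹ by group, h1, mul_neg, neg_mul,
    S.e_conj, S.B_comm, hz, sg_one, neg_one_mul, neg_neg]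

/-- An element of two-coordinate shape whose square is scalar is a monomial. -/
theorem mem_Rm_of_pq {u r : V} (hu : S.Q u = 1) (hr : S.B u r = 0) {g : GL (Idx m) F} (hg : g ∈ Cfsg.spGL m F)
    {p q : F} (h : (g : Mx m F) = (p • 1 + q • S.E u) * S.E r) (hsq : Pm (g * g) 1) : g ∈ S.Rm := by
  classical
  set l := g * (S.e r)⁻¹ with hl
  have hlv : (l : Mx m F) = p • 1 + q • S.E u := by
    rw [hl, Units.val_mul, h, mul_assoc, Units.mul_inv, mul_one]
  have hn := S.pq_norm hu ((Cfsg.spGL m F).mul_mem hg ((Cfsg.spGL m F).inv_mem (S.mem r))) hlv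
  have hcomm : S.E r * (p • 1 + q • S.E u) = (p • 1 + q • S.E u) * S.E r := by
    rw [mul_add, add_mul, mul_smul_comm, smul_mul_assoc, mul_one, one_mul, mul_smul_comm, smul_mul_assoc,
      S.E_comm r u, S.B_comm, hr, sgn_zero, one_smul]
  obtain ⟨c, hc, hc'⟩ := hsq.smul_val
  rw [Units.val_mul, h, Units.val_one] at hc'
  have e1 : (p • 1 + q • S.E u) * S.E r * ((p • 1 + q • S.E u) * S.E r) =
      sgn F (S.Q r) • ((p * p - q * q) • 1 + (2 * (p * q)) • S.E u) := by
    rw [mul_assoc, ← mul_assoc (S.E r), hcomm, mul_assoc, S.E_sq, mul_smul_comm, mul_smul_comm, mul_one]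
    congr 1
    simp only [add_mul, mul_add, smul_mul_assoc, mul_smul_comm, one_mul, mul_one, smul_smul, S.E_sq, hu, sgn_one]
    match_scalars <;> ring
  rw [e1] at hc'
  have hc2 := congrArg (sgn F (S.Q r) • ·) hc'
  simp only [smul_smul, sgn_sq, one_smul] at hc2
  have h2 := S.pq_inj hu (p' := sgn F (S.Q r) * c) (q' := 0) (hc2.trans (by rw [zero_smul, add_zero]))
  rcases mul_eq_zero.1 ((mul_eq_zero.1 h2.2).resolve_left S.two) with rfl | rfl
  · rw [zero_mul, zero_add] at hn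
    refine ⟨u + r, Pm.trans ?_ (S.e_add u r)⟩
    rcases mul_self_eq_one_iff.1 hn with rfl | rfl
    · exact Or.inl (Units.ext (by rw [h, zero_smul, zero_add, one_smul, Units.val_mul]))
    · exact Or.inr (Units.ext (by rw [h, zero_smul, zero_add, neg_one_smul, neg_mul, Units.val_neg, Units.val_mul]))
  · rw [mul_zero, add_zero] at hn
    refine ⟨r, ?_⟩
    rcases mul_self_eq_one_iff.1 hn with rfl | rfl
    · exact Or.inl (Units.ext (by rw [h, zero_smul, add_zero, one_smul, one_mul]))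
    · exact Or.inr (Units.ext (by rw [h, zero_smul, add_zero, neg_one_smul, neg_mul, one_mul, Units.val_neg]))

end Sys

end CfsgLib.Geo.PauliSp
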