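import Cfsg.Agent.Geo.PauliSp.Chart
import Cfsg.Agent.Classical.SymplecticSimple
import Cfsg.Prelude.Def_GeometricClasses

/-!
The monomial system of one half, and the projection of an overgroup of the normaliser on it.
-/

set_option autoImplicit false
set_option linter.unusedSectionVars false
set_option linter.unusedSimpArgs false
set_option linter.style.haveILetI false

namespace CfsgLib.Geo.PauliSp

open Matrix Module
open CfsgLib.Geo.PauliEight (sgn sgn_zero sgn_one)

variable {m : ℕ} {F : Type*} [Field F] {V : Type*} [AddCommGroup V] [Module (ZMod 2) V] [Fintype V]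

/-- An overgroup of the normaliser other than the symplectic group. -/
structure Over (S : Sys m F V) (M : Subgroup (GL (Idx m) F)) : Prop where
  ge : S.Nm ≤ M
  sp : M ≤ Cfsg.spGL m F
  proper : ¬ Cfsg.spGL m F ≤ M

namespace Sys

variable (S : Sys m F V)

/-- An element carrying generators of the vector space to monomials normalises. -/
theorem mem_Nm_of_set [Finite F] {g : GL (Idx m) F} (hg : g ∈ Cfsg.spGL m F) (T : Set V)
    (hT : Submodule.span (ZMod 2) T = ⊤) (h : ∀ x ∈ T, g * S.e x * g⁻¹ ∈ S.Rm) : g ∈ S.Nm := by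
  refine S.mem_Nm_of hg fun x => ?_
  have hx : x ∈ Submodule.span (ZMod 2) T := hT ▸ Submodule.mem_top
  show g * S.e x * g⁻¹ ∈ S.Rm
  clear hT
  induction hx using Submodule.span_induction with
  | mem v hv => exact h v hv
  | zero => rw [S.e_zero, mul_one, mul_inv_cancel]; exact S.Rm.one_mem
  | add v w _ _ hv hw =>
    refine (mem_iff_of_pm S.neg_one_mem ((S.e_add v w).symm.conj g)).2 ?_
    rw [show g * (S.e v * S.e w) * g⁻¹ = g * S.e v * g⁻¹ * (g * S.e w * g⁻¹) by group]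
    exact S.Rm.mul_mem hv hw
  | smul a v _ hv =>
    rcases bit a with rfl | rfl
    · rw [zero_smul, S.e_zero, mul_one, mul_inv_cancel]; exact S.Rm.one_mem
    · rwa [one_smul]

end Sys

namespace Chart

variable {S : Sys m F V} {x y : V} {n : ℕ} (C : Chart S x y n)

/-- The vectors orthogonal to both involutions. -/
abbrev W (_C : Chart S x y n) : Submodule (ZMod 2) V := S.perp (Submodule.span (ZMod 2) ({x, y} : Set V))

theorem mem_W {z : V} : z ∈ C.W ↔ S.B x z = 0 ∧ S.B y z = 0 := S.mem_perp_pair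

theorem exists_diag (z : C.W) : ∃ a, S.e z = C.χ (a, a) := by
  obtain ⟨h1, h2⟩ := C.mem_W.1 z.2
  exact C.exists_χ_self (S.e_comm' h1).symm (S.e_comm' h2).symm

noncomputable instance instFintypeW : Fintype C.W := Fintype.ofFinite _

/-- The block of a monomial orthogonal to both involutions. -/
noncomputable def e₀ (z : C.W) : GL (Idx n) F := (C.exists_diag z).choose

theorem e₀_spec (z : C.W) : S.e z = C.χ (C.e₀ z, C.e₀ z) := (C.exists_diag z).choose_spec

theorem e₀_unique {z : C.W} {a : GL (Idx n) F} (h : S.e z = C.χ (a, a)) : C.e₀ z = a :=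
  (C.χ_inj ((C.e₀_spec z).symm.trans h)).1

theorem χ_sg (b : ZMod 2) : C.χ (sg b, sg b) = sg b := by
  rcases bit b with rfl | rfl
  · simp only [sg_zero]; exact map_one C.χ
  · rw [sg_one, C.χ_neg, show ((1 : GL (Idx n) F), (1 : GL (Idx n) F)) = 1 from rfl, map_one, sg_one]

theorem pm_diag {a b : GL (Idx n) F} : Pm (C.χ (a, a)) (C.χ (b, b)) ↔ Pm a b := by
  constructor
  · rintro (h | h)
    · exact Or.inl (C.χ_inj h).1
    · rw [← C.χ_neg] at h
      exact Or.inr (C.χ_inj h).1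
  · rintro (rfl | rfl)
    · exact Or.inl rfl
    · exact Or.inr (C.χ_neg b b)

include C in
theorem card_pos : 0 < n := by
  by_contra h
  obtain rfl : n = 0 := by omega
  have h1 := C.q.finrank_eq
  rw [Module.finrank_fintype_fun_eq_card, Module.finrank_fintype_fun_eq_card] at h1
  have := S.pos
  simp at h1
  omega

variable (hxy : S.B x y = 1)
include hxy

theorem decomp (v : V) : v + S.B y v • x + S.B x v • y ∈ C.W := by
  have hyx : S.B y x = 1 := (S.B_comm y x).trans hxy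
  refine C.mem_W.2 ⟨?_, ?_⟩
  · simp only [map_add, map_smul, S.B_self, hxy, smul_eq_mul, mul_zero, mul_one, add_zero]
    exact CharTwo.add_self_eq_zero _
  · simp only [map_add, map_smul, S.B_self, hyx, smul_eq_mul, mul_zero, mul_one, add_zero]
    exact CharTwo.add_self_eq_zero _

theorem span_top : Submodule.span (ZMod 2) ((C.W : Set V) ∪ {x, y}) = ⊤ := by
  refine Submodule.eq_top_iff'.2 fun v => ?_
  have h := C.decomp hxy v
  have e : v = v + S.B y v • x + S.B x v • y + (S.B y v • x + S.B x v • y) := by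
    rw [add_assoc v, add_assoc, Quad.torsion, add_zero]
  rw [e]
  exact Submodule.add_mem _ (Submodule.subset_span (Or.inl h)) (Submodule.add_mem _
    (Submodule.smul_mem _ _ (Submodule.subset_span (Or.inr (by simp))))
    (Submodule.smul_mem _ _ (Submodule.subset_span (Or.inr (by simp)))))

theorem finrank_W : finrank (ZMod 2) C.W + 2 = 2 * S.k := by
  show finrank (ZMod 2) (S.perp (Submodule.span (ZMod 2) ({x, y} : Set V))) + 2 = 2 * S.k
  have h1 := S.finrank_perp (Submodule.span (ZMod 2) ({x, y} : Set V))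
  have h2 := Quad.finrank_span_le_two x y
  have hx0 : x ≠ 0 := S.ne_zero_of_B hxy
  have h3 : Submodule.span (ZMod 2) {x} < Submodule.span (ZMod 2) ({x, y} : Set V) := by
    refine lt_of_le_of_ne (Submodule.span_mono (by simp)) fun e => ?_
    have hy : y ∈ Submodule.span (ZMod 2) {x} := e ▸ Submodule.subset_span (by simp)
    obtain ⟨a, rfl⟩ := Submodule.mem_span_singleton.1 hy
    rw [map_smul, S.B_self, smul_zero] at hxy
    exact zero_ne_one hxy
  have h4 := Submodule.finrank_lt_finrank_of_lt h3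
  rw [finrank_span_singleton hx0] at h4
  omega

/-- The monomial system of one half. -/
noncomputable def sub (hQx : S.Q x = 0) (hk : 2 ≤ S.k) : Sys n F C.W where
  k := S.k - 1
  B := S.B.compl₁₂ C.W.subtype C.W.subtype
  Q z := S.Q z
  alt z := S.B_self (z : V)
  nondeg := by
    have key : ∀ z : C.W, (∀ w : C.W, S.B (z : V) w = 0) → z = 0 := by
      intro z hz
      refine Subtype.ext (S.nondeg.1 _ fun v => ?_)
      have h := hz ⟨_, C.decomp hxy v⟩
      obtain ⟨h1, h2⟩ := C.mem_W.1 z.2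
      simpa only [map_add, map_smul, S.B_comm (z : V) x, S.B_comm (z : V) y, h1, h2, smul_zero, add_zero] using h
    exact ⟨key, fun z hz => key z fun w => (S.B_comm _ _).trans (hz w)⟩
  Q_add a b := S.Q_add _ _
  dim := by have := C.finrank_W hxy; omega
  minus U hU := by
    have h := S.minus (U.map C.W.subtype ⊔ Submodule.span (ZMod 2) {x}) fun v hv => by
      obtain ⟨a, ⟨z, hz, rfl⟩, b, hb, rfl⟩ := Submodule.mem_sup.1 hv
      obtain ⟨c, rfl⟩ := Submodule.mem_span_singleton.1 hb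
      have hz0 : S.Q (z : V) = 0 := hU z hz
      rcases bit c with rfl | rfl
      · simpa using hz0
      · rw [one_smul]
        show S.Q ((z : V) + x) = 0
        rw [S.Q_add, hz0, hQx, S.B_comm, (C.mem_W.1 z.2).1, add_zero, add_zero]
    have hd : Disjoint (U.map C.W.subtype) (Submodule.span (ZMod 2) {x}) := by
      refine Submodule.disjoint_def.2 fun v hv hv' => ?_
      obtain ⟨z, -, rfl⟩ := hv
      obtain ⟨c, hc⟩ := Submodule.mem_span_singleton.1 hv'
      have h2 := (C.mem_W.1 z.2).2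
      rw [← show c • x = (z : V) from hc, map_smul, S.B_comm, hxy, smul_eq_mul, mul_one] at h2
      rw [← hc, h2, zero_smul]
    have hs := Submodule.finrank_sup_add_finrank_inf_eq (U.map C.W.subtype) (Submodule.span (ZMod 2) {x})
    rw [disjoint_iff.1 hd, finrank_bot, finrank_span_singleton (S.ne_zero_of_B hxy),
      (Submodule.equivMapOfInjective _ C.W.injective_subtype U).finrank_eq.symm] at hs
    omega
  e := C.e₀
  two := S.two
  pos := C.card_pos
  mem z := (C.χ_mem_iff.1 (C.e₀_spec z ▸ S.mem z)).1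
  e_zero := C.e₀_unique (by
    show S.e 0 = _
    rw [S.e_zero]; exact (map_one C.χ).symm)
  e_add a b := C.pm_diag.1 (by
    rw [← C.e₀_spec (a + b), ← Prod.mk_mul_mk, map_mul, ← C.e₀_spec, ← C.e₀_spec]
    exact S.e_add _ _)
  e_sq a := by
    have h := S.e_sq (a : V)
    rw [C.e₀_spec, ← map_mul, ← C.χ_sg, Prod.mk_mul_mk] at h
    exact (C.χ_inj h).1
  e_comm a b := by
    have h := S.e_comm (a : V) b
    rw [C.e₀_spec, C.e₀_spec, ← C.χ_sg, ← map_mul, ← map_mul, ← map_mul, Prod.mk_mul_mk, Prod.mk_mul_mk,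
      Prod.mk_mul_mk] at h
    exact (C.χ_inj h).1
  commutant A hA := by
    have key : ∀ v, C.blk A 0 0 A * S.E v = S.E v * C.blk A 0 0 A := fun v => by
      have hv : v ∈ Submodule.span (ZMod 2) ((C.W : Set V) ∪ {x, y}) := (C.span_top hxy).symm ▸ Submodule.mem_top
      induction hv using Submodule.span_induction with
      | mem v hv =>
        rcases hv with hv | hv | hv
        · show _ * (S.e v : Mx m F) = (S.e v : Mx m F) * _
          rw [show S.e v = _ from C.e₀_spec ⟨v, hv⟩, χ_val, blk_mul, blk_mul, blk_inj]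
          have := hA ⟨v, hv⟩
          simp [this]
        · rw [show v = x from hv, ← C.blk_x, blk_mul, blk_mul, blk_inj]; simp
        · rw [show v = y from hv, ← C.blk_y, blk_mul, blk_mul, blk_inj]; simp
      | zero => rw [S.E_zero, mul_one, one_mul]
      | add v w _ _ hv hw =>
        obtain ⟨c, hc, e⟩ := S.E_mul v w
        have hc0 : c ≠ 0 := by rcases hc with rfl | rfl <;> simp
        refine smul_right_injective _ hc0 ?_
        show c • (_ * S.E (v + w)) = c • (S.E (v + w) * _)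
        rw [← mul_smul_comm, ← smul_mul_assoc, ← e, ← mul_assoc, hv, mul_assoc, hw, mul_assoc]
      | smul a v _ hv =>
        rcases bit a with rfl | rfl
        · rw [zero_smul, S.E_zero, mul_one, one_mul]
        · rwa [one_smul]
    obtain ⟨c, hc⟩ := S.commutant _ key
    rw [← C.blk_one, blk_smul, blk_inj] at hc
    exact ⟨c, hc.1⟩

variable (hQx : S.Q x = 0) (hk : 2 ≤ S.k)

theorem diag_mem_Rm {d : GL (Idx n) F} (hd : d ∈ (C.sub hxy hQx hk).Rm) : C.χ (d, d) ∈ S.Rm := by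
  obtain ⟨z, hz⟩ := hd
  exact ⟨z, (C.pm_diag.2 hz).trans (Or.inl (C.e₀_spec z).symm)⟩

theorem x_side_mem (b : ZMod 2) : C.χ (1, sg b) ∈ S.Rm := by
  rcases bit b with rfl | rfl
  · rw [sg_zero, show ((1 : GL (Idx n) F), (1 : GL (Idx n) F)) = 1 from rfl, map_one]; exact S.Rm.one_mem
  · rw [sg_one, C.χ_x]; exact S.e_mem x

variable [Finite F]

theorem dg_self_mem {a : GL (Idx n) F} (ha : a ∈ (C.sub hxy hQx hk).Nm) : C.χ (a, a) ∈ S.Nm := by
  refine S.mem_Nm_of_set (C.χ_mem_iff.2 ⟨ha.2, ha.2⟩) _ (C.span_top hxy) ?_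
  rintro v (hv | hv | hv)
  · rw [show S.e v = _ from C.e₀_spec ⟨v, hv⟩, ← map_mul, ← map_inv, ← map_mul]
    exact C.diag_mem_Rm hxy hQx hk ((Subgroup.mem_normalizer_iff.1 ha.1 _).1 ((C.sub hxy hQx hk).e_mem _))
  · rw [show v = x from hv, ← C.χ_x, ← map_mul, ← map_inv, ← map_mul]
    simp only [Prod.inv_mk, Prod.mk_mul_mk, mul_one, mul_neg, neg_mul, mul_inv_cancel]
    rw [C.χ_x]; exact S.e_mem x
  · rw [show v = y from hv, ← C.y_swap, mul_inv_cancel_right]
    exact S.e_mem y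

theorem one_side_mem {c : GL (Idx n) F} (hc : c ∈ (C.sub hxy hQx hk).Rm) : C.χ (c, 1) ∈ S.Nm := by
  obtain ⟨z, hz⟩ := hc
  have hs : c ∈ Cfsg.spGL n F := (C.sub hxy hQx hk).Rm_le ⟨z, hz⟩
  refine S.mem_Nm_of_set (C.χ_mem_iff.2 ⟨hs, Subgroup.one_mem _⟩) _ (C.span_top hxy) ?_
  have hcd : C.χ (c, c) ∈ S.Rm := C.diag_mem_Rm hxy hQx hk ⟨z, hz⟩
  rintro v (hv | hv | hv)
  · rw [show S.e v = _ from C.e₀_spec ⟨v, hv⟩, ← map_mul, ← map_inv, ← map_mul]
    simp only [Prod.inv_mk, Prod.mk_mul_mk, inv_one, one_mul, mul_one]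
    have h : Pm (c * C.e₀ ⟨v, hv⟩ * c⁻¹) (C.e₀ ⟨v, hv⟩) :=
      (((hz.mul (Pm.refl _)).mul hz.inv)).trans (Pm.of_sg ((C.sub hxy hQx hk).e_conj z ⟨v, hv⟩))
    rcases h with h | h
    · rw [h, ← C.e₀_spec]; exact S.e_mem _
    · rw [h, show (-C.e₀ ⟨v, hv⟩, C.e₀ ⟨v, hv⟩) =
        ((C.e₀ ⟨v, hv⟩, C.e₀ ⟨v, hv⟩) * ((-1 : GL (Idx n) F), (1 : GL (Idx n) F))) by simp, map_mul, ← C.e₀_spec]
      refine S.Rm.mul_mem (S.e_mem _) ?_
      rw [show ((-1 : GL (Idx n) F), (1 : GL (Idx n) F)) = (-1, -(-1)) by simp, C.χ_neg, C.χ_x, ← neg_one_mul]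
      exact S.Rm.mul_mem S.neg_one_mem (S.e_mem _)
  · rw [show v = x from hv, ← C.χ_x, ← map_mul, ← map_inv, ← map_mul]
    simp only [Prod.inv_mk, Prod.mk_mul_mk, mul_one, mul_neg, neg_mul, mul_inv_cancel, one_mul, inv_one]
    rw [C.χ_x]; exact S.e_mem x
  · rw [show v = y from hv, mul_assoc, ← map_inv, C.y_swap, ← mul_assoc, ← map_mul]
    simp only [Prod.inv_mk, Prod.mk_mul_mk, inv_one, mul_one, one_mul]
    refine S.Rm.mul_mem ?_ (S.e_mem y)
    have hcc : c⁻¹ = c * sg ((C.sub hxy hQx hk).Q z) := by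
      refine inv_eq_of_mul_eq_one_right ?_
      rcases hz with rfl | rfl
      all_goals
        simp only [← mul_assoc, neg_mul_neg, (C.sub hxy hQx hk).e_sq]
        rcases bit ((C.sub hxy hQx hk).Q z) with e | e <;> simp [e]
    rw [hcc, show (c, c * sg ((C.sub hxy hQx hk).Q z)) = (c, c) * ((1 : GL (Idx n) F), sg ((C.sub hxy hQx hk).Q z)) by
      simp, map_mul]
    exact S.Rm.mul_mem hcd (C.x_side_mem hxy _)

end Chart

/-- The projection on the first half of the block diagonal part. -/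
noncomputable def proj {S : Sys m F V} {x y : V} {n : ℕ} (C : Chart S x y n) (M : Subgroup (GL (Idx m) F)) :
    Subgroup (GL (Idx n) F) :=
  (M.comap C.χ).map (MonoidHom.fst _ _)

theorem mem_proj {S : Sys m F V} {x y : V} {n : ℕ} {C : Chart S x y n} {M : Subgroup (GL (Idx m) F)}
    {a : GL (Idx n) F} : a ∈ proj C M ↔ ∃ b, C.χ (a, b) ∈ M :=
  ⟨fun ⟨p, hp, e⟩ => ⟨p.2, by rw [← e]; exact hp⟩, fun ⟨b, hb⟩ => ⟨(a, b), hb, rfl⟩⟩

namespace Over

variable {S : Sys m F V} {M : Subgroup (GL (Idx m) F)} (hO : Over S M) [Finite F]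
  {x y : V} {n : ℕ} (C : Chart S x y n)
include hO

theorem swap_mem {a b : GL (Idx n) F} (h : C.χ (a, b) ∈ M) : C.χ (b, a) ∈ M := by
  have hy := hO.ge (S.e_mem_Nm y)
  have := M.mul_mem (M.mul_mem hy h) (M.inv_mem hy)
  rwa [C.y_swap, mul_inv_cancel_right] at this

variable (hxy : S.B x y = 1) (hQx : S.Q x = 0) (hQy : S.Q y = 0)

include hxy hQx hQy in
theorem not_full (hk : 4 ≤ S.k) : ¬ Cfsg.spGL n F ≤ proj C M := by
  intro hfull
  have hk2 : 2 ≤ S.k := by omega
  set S₀ := C.sub hxy hQx hk2 with hS₀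
  let ι : Matrix.symplecticGroup (Fin n) F →* GL (Idx m) F :=
    (C.χ.comp (MonoidHom.inl _ _)).comp SpTv.toGLHom
  let N := M.comap ι
  haveI : N.Normal := ⟨fun k hk g => by
    obtain ⟨b, hb⟩ := mem_proj.1 (hfull (SpTv.toGLHom_mem g))
    have := M.mul_mem (M.mul_mem hb hk) (M.inv_mem hb)
    show ι (g * k * g⁻¹) ∈ M
    convert this using 1
    simp [ι, ← map_mul, ← map_inv]⟩
  have hNt : N = ⊤ := by
    haveI : Nonempty (Fin n) := ⟨⟨0, C.card_pos⟩⟩
    haveI := CfsgLib.Symp.isPreprimitive (l := Fin n) (F := F)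
    have hn : 2 ≤ n := by
      have h1 := S₀.two_m
      have h2 : 2 ^ 3 ≤ 2 ^ S₀.k := Nat.pow_le_pow_right (by norm_num) (show 3 ≤ S.k - 1 by omega)
      omega
    refine eq_top_iff.mpr ((CfsgLib.Symp.commutator_eq_top
      (Or.inr (Or.inl ⟨by simpa using hn, S.two⟩))).symm.le.trans
      (CfsgLib.Symp.spIwasawa.commutator_le N fun hfp => ?_))
    obtain ⟨z, -, hz⟩ := S₀.exists_nonsing (U := ⊤) (by rw [finrank_top, S₀.dim]; omega)
    obtain ⟨w, hw⟩ := S₀.exists_B_one (S₀.ne_zero_of_Q hz)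
    let gz : Matrix.symplecticGroup (Fin n) F :=
      ⟨S₀.E z, CfsgLib.Symp.mem_iff_form.2 (SpTv.mem_spGL.1 (S₀.mem z))⟩
    let gw : Matrix.symplecticGroup (Fin n) F :=
      ⟨S₀.E w, CfsgLib.Symp.mem_iff_form.2 (SpTv.mem_spGL.1 (S₀.mem w))⟩
    have hgz : gz ∈ N := by
      show C.χ (SpTv.toGLHom gz, 1) ∈ M
      rw [show SpTv.toGLHom gz = S₀.e z from Units.ext rfl]
      exact hO.ge (C.one_side_mem hxy hQx hk2 (S₀.e_mem z))
    have hc : gz ∈ Subgroup.center (Matrix.symplecticGroup (Fin n) F) :=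
      CfsgLib.Symp.smul_eq_self_mem_center fun P => Set.eq_univ_iff_forall.mp hfp P ⟨gz, hgz⟩
    have h := congrArg (fun g => SpTv.toGLHom g) (Subgroup.mem_center_iff.1 hc gw)
    simp only [map_mul] at h
    rw [show SpTv.toGLHom gz = S₀.e z from Units.ext rfl, show SpTv.toGLHom gw = S₀.e w from Units.ext rfl,
      S₀.e_anti hw] at h
    exact S₀.neg_ne _ h
  have hleft : ∀ g : Matrix.symplecticGroup (Fin n) F, C.χ (SpTv.toGLHom g, 1) ∈ M := fun g =>
    (hNt.ge (Subgroup.mem_top g) : g ∈ N)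
  have hright : ∀ g : Matrix.symplecticGroup (Fin n) F, C.χ (1, SpTv.toGLHom g) ∈ M := fun g =>
    hO.swap_mem C (hleft g)
  have hfl : ∀ v, SpTv.Full M (C.q (Sum.elim v 0)) := fun v c => by rw [C.stv_left]; exact hleft _
  have hfr : ∀ v, SpTv.Full M (C.q (Sum.elim 0 v)) := fun v c => by rw [C.stv_right]; exact hright _
  -- a mixed centre
  obtain ⟨h, hh, he⟩ := S.move_exact (by omega) (S.ne_zero_of_B ((S.B_comm y x).trans hxy))
    (S.ne_zero_of_B hxy) (hQy.trans hQx.symm)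
  haveI : Nonempty (Idx n) := ⟨Sum.inl ⟨0, C.card_pos⟩⟩
  obtain ⟨v₀, hv₀⟩ := exists_ne (0 : Idx n → F)
  obtain ⟨w, hw⟩ := C.q.surjective ((((h⁻¹ : GL (Idx m) F)) : Mx m F) *ᵥ C.q (Sum.elim v₀ 0))
  have hy : w ∘ Sum.swap = w := by
    refine C.q.injective ?_
    rw [← C.y_act, hw, Matrix.mulVec_mulVec]
    have e1 : S.e y * h⁻¹ = h⁻¹ * S.e x := by rw [← he]; group
    show ((S.e y : Mx m F) * ((h⁻¹ : GL (Idx m) F) : Mx m F)) *ᵥ _ = _
    rw [← Units.val_mul, e1, Units.val_mul, ← Matrix.mulVec_mulVec]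
    show _ *ᵥ (S.E x *ᵥ _) = _
    rw [C.x_act]
    simp
  set b := w ∘ Sum.inl with hb
  have hwb : w = Sum.elim b b := funext fun i => by
    rcases i with i | i
    · rfl
    · exact (congrFun hy (Sum.inr i)).symm
  have hb0 : b ≠ 0 := fun e0 => hv₀ (by
    have h' := congrArg ((h : Mx m F) *ᵥ ·) hw
    simp only [Matrix.mulVec_mulVec, Units.mul_inv, Matrix.one_mulVec, hwb, e0] at h'
    rw [show (Sum.elim (0 : Idx n → F) 0) = 0 from funext fun i => by cases i <;> rfl, map_zero,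
      Matrix.mulVec_zero, eq_comm, LinearEquiv.map_eq_zero_iff] at h'
    exact funext fun i => congrFun h' (Sum.inl i))
  have hmix : SpTv.Full M (C.q (Sum.elim b b)) :=
    hwb ▸ hw ▸ SpTv.full_conj hO.sp (hfl v₀) (M.inv_mem (hO.ge hh))
  refine hO.proper (SpTv.spGL_le_of_full fun z => ?_)
  obtain ⟨z, rfl⟩ := C.q.surjective z
  rw [← Sum.elim_comp_inl_inr z]
  generalize z ∘ Sum.inl = v, z ∘ Sum.inr = w'
  by_cases hv : v = 0
  · subst hv; exact hfr w'
  by_cases hw' : w' = 0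
  · subst hw'; exact hfl v
  obtain ⟨g, hg⟩ := CfsgLib.Symp.exists_smul_eq_of_ne_zero hb0 hv
  obtain ⟨g', hg'⟩ := CfsgLib.Symp.exists_smul_eq_of_ne_zero hb0 hw'
  have := SpTv.full_conj hO.sp hmix (M.mul_mem (hleft g) (hright g'))
  rw [← map_mul, Prod.mk_mul_mk, mul_one, one_mul, C.χ_mulVec, Sum.elim_comp_inl, Sum.elim_comp_inr,
    SpTv.toGLHom_mulVec, SpTv.toGLHom_mulVec, hg, hg'] at this
  exact this

include hxy hQx hQy in
theorem proj_eq (hk : 4 ≤ S.k)
    (hmax : Cfsg.Geo.IsMaximalIn (Cfsg.spGL n F) (C.sub hxy hQx (by omega)).Nm) :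
    proj C M = (C.sub hxy hQx (by omega)).Nm :=
  (hmax.2 _ (fun a ha => mem_proj.2 ⟨a, hO.ge (C.dg_self_mem hxy hQx _ ha)⟩) fun a ha => by
    obtain ⟨b, hb⟩ := mem_proj.1 ha
    exact (C.χ_mem_iff.1 (hO.sp hb)).1).resolve_right fun e => hO.not_full C hxy hQx hQy hk e.ge

end Over

end CfsgLib.Geo.PauliSp
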