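import Cfsg.Agent.Geo.PauliSp.Half

/-!
The centraliser in an overgroup of an involution of the system lies in the normaliser.
-/

set_option autoImplicit false
set_option linter.unusedSectionVars false
set_option linter.unusedSimpArgs false
set_option linter.style.haveILetI false

namespace CfsgLib.Geo.PauliSp

open Matrix Module
open CfsgLib.Geo.PauliEight (sgn sgn_zero sgn_one)

variable {m : ℕ} {F : Type*} [Field F] {V : Type*} [AddCommGroup V] [Module (ZMod 2) V] [Fintype V]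

namespace Sys

variable (S : Sys m F V)

/-- The centraliser of an involution permutes the monomials on its fixed space. -/
def ProjNorm (M : Subgroup (GL (Idx m) F)) : Prop :=
  ∀ x, x ≠ 0 → S.Q x = 0 → ∀ g ∈ M, g * S.e x = S.e x * g → ∀ t, S.B x t = 0 →
    ∃ s ∈ S.Rm, ((g * S.e t * g⁻¹ : GL (Idx m) F) : Mx m F) * (1 + S.E x) = (s : Mx m F) * (1 + S.E x)

/-- Elements of `M` fixing an involution up to sign normalise. -/
def CentOne (M : Subgroup (GL (Idx m) F)) : Prop :=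
  ∀ x, x ≠ 0 → S.Q x = 0 → ∀ g ∈ M, Pm (g * S.e x * g⁻¹) (S.e x) → g ∈ S.Nm

/-- The statement one step below. -/
def HalfMax (S : Sys m F V) : Prop :=
  ∀ (n : ℕ) (W : Submodule (ZMod 2) V) [Fintype W] (S' : Sys n F W), S'.k + 1 = S.k →
    Cfsg.Geo.IsMaximalIn (Cfsg.spGL n F) S'.Nm

theorem exists_B_one_zero {a b : V} (ha : a ≠ 0) (hne : a ≠ b) : ∃ v, S.B a v = 1 ∧ S.B b v = 0 := by
  by_cases hb : b = 0
  · obtain ⟨v, hv⟩ := S.exists_B_one ha
    exact ⟨v, hv, by rw [hb, map_zero, LinearMap.zero_apply]⟩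
  obtain ⟨v, h1, h2⟩ := S.exists_B_two (x := a + b) (y := a) (fun e => hne (Quad.eq_of_add_eq_zero e)) ha
  rw [S.B_add, h2] at h1
  exact ⟨v, h2, add_eq_left.1 h1⟩

theorem perm_tv {c : GL (Idx m) F} (hc : c ∈ S.Nm) (r v : V) :
    S.perm c (S.tv r v) = S.tv (S.perm c r) (S.perm c v) := by
  rcases bit (S.B r v) with h | h
  · rw [S.tv_of_zero h, S.tv_of_zero (by rw [S.B_perm hc, h])]
  · rw [S.tv_of_one h, S.tv_of_one (by rw [S.B_perm hc, h]), S.perm_add hc]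

theorem perm_e (z v : V) : S.perm (S.e z) v = v := S.perm_eq (Pm.of_sg (S.e_conj z v))

theorem one_add_E_ne {z : V} (hz : z ≠ 0) : (1 : Mx m F) + S.E z ≠ 0 := fun h => by
  classical
  have h1 := congrArg (S.coef 0) h
  rw [← S.E_zero, map_add, S.coef_E, S.coef_E, if_pos rfl, if_neg hz, add_zero, map_zero] at h1
  exact one_ne_zero h1

theorem eq_or_of_mul_add {z t t' : V} (hz : z ≠ 0) {c : F}
    (h : S.E t' * (1 + S.E z) = c • (S.E t * (1 + S.E z))) : t' = t ∨ t' = t + z := by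
  classical
  obtain ⟨γ, -, e1⟩ := S.E_mul t' z
  obtain ⟨γ', -, e2⟩ := S.E_mul t z
  rw [mul_add, mul_one, mul_add, mul_one, e1, e2] at h
  have h1 := congrArg (S.coef t') h
  simp only [map_add, map_smul, S.coef_E, smul_eq_mul, if_pos] at h1
  rw [if_neg (fun e => hz (add_eq_left.1 e))] at h1
  by_contra hne
  push Not at hne
  rw [if_neg (Ne.symm hne.1), if_neg (Ne.symm hne.2)] at h1
  simp at h1

end Sys

namespace Chart

variable {S : Sys m F V} {x y : V} {n : ℕ} (C : Chart S x y n)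
  (hxy : S.B x y = 1) (hQx : S.Q x = 0) (hk : 2 ≤ S.k)

theorem one_add_x : (1 : Mx m F) + S.E x = C.blk ((2 : F) • 1) 0 0 0 := by
  rw [← C.blk_x, ← C.blk_one, blk_add, two_smul]
  simp

theorem exists_of_perp {t : V} (ht : S.B x t = 0) :
    ∃ d ∈ (C.sub hxy hQx hk).Rm, ∃ d', S.e t = C.χ (d, d') := by
  have hw : t + S.B y t • x ∈ C.W := by
    have h := C.decomp hxy t
    rwa [ht, zero_smul, add_zero] at h
  set z : C.W := ⟨_, hw⟩ with hz
  have h1 : Pm (S.e t) (C.χ (C.e₀ z, C.e₀ z * sg (S.B y t))) := by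
    have h2 := (S.e_add (z : V) (S.B y t • x)).symm
    rw [show (z : V) + S.B y t • x = t from by rw [hz, add_assoc, Quad.torsion, add_zero]] at h2
    refine h2.trans (Or.inl ?_)
    rw [show (C.e₀ z, C.e₀ z * sg (S.B y t)) = (C.e₀ z, C.e₀ z) * ((1 : GL (Idx n) F), sg (S.B y t)) by simp,
      map_mul, ← C.e₀_spec]
    congr 1
    rcases bit (S.B y t) with e | e <;> rw [e]
    · rw [zero_smul, S.e_zero, sg_zero]; exact (map_one C.χ).symm
    · rw [one_smul, sg_one, C.χ_x]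
  rcases h1 with h1 | h1
  · exact ⟨_, ⟨z, Pm.refl _⟩, _, h1⟩
  · rw [← C.χ_neg] at h1
    exact ⟨_, ⟨z, Or.inr rfl⟩, _, h1⟩

theorem exists_blk_Rm {s : GL (Idx m) F} (hs : s ∈ S.Rm) :
    ∃ d ∈ (C.sub hxy hQx hk).Rm, ∃ d' : Mx n F,
      (s : Mx m F) = C.blk d 0 0 d' ∨ (s : Mx m F) = C.blk 0 d d' 0 := by
  have hneg : ∀ {d : GL (Idx n) F}, d ∈ (C.sub hxy hQx hk).Rm → -d ∈ (C.sub hxy hQx hk).Rm := fun {d} hd =>
    (mem_iff_of_pm (C.sub hxy hQx hk).neg_one_mem (Or.inr rfl : Pm (-d) d)).2 hd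
  obtain ⟨v, hv⟩ := hs
  rcases bit (S.B x v) with h | h
  · obtain ⟨d, hd, d', e⟩ := C.exists_of_perp hxy hQx hk h
    rcases hv with rfl | rfl
    · exact ⟨d, hd, d', Or.inl (by rw [e]; rfl)⟩
    · exact ⟨-d, hneg hd, -d', Or.inl (by rw [e, Units.val_neg, C.χ_val, blk_neg]; simp)⟩
  · obtain ⟨d, hd, d', e⟩ := C.exists_of_perp hxy hQx hk (t := v + y) (by
      rw [S.B_add', h, hxy]; decide)
    have h2 := (S.e_add (v + y) y).symm
    rw [add_assoc, Quad.torsion, add_zero, e] at h2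
    have hval : ((C.χ (d, d') * S.e y : GL (Idx m) F) : Mx m F) = C.blk 0 d d' 0 := by
      rw [Units.val_mul, C.χ_val]
      show _ * S.E y = _
      rw [← C.blk_y, blk_mul]
      simp
    rcases hv.trans h2 with rfl | rfl
    · exact ⟨d, hd, d', Or.inr hval⟩
    · exact ⟨-d, hneg hd, -d', Or.inr (by rw [Units.val_neg, hval, blk_neg]; simp)⟩

end Chart

namespace Over

variable {S : Sys m F V} {M : Subgroup (GL (Idx m) F)} (hO : Over S M) [Finite F] (hIH : S.HalfMax) (hk : 4 ≤ S.k)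
include hO hIH hk

theorem proj_eq' {x y : V} {n : ℕ} (C : Chart S x y n) (hxy : S.B x y = 1) (hQx : S.Q x = 0) (hQy : S.Q y = 0) :
    proj C M = (C.sub hxy hQx (by omega)).Nm := by
  refine hO.proj_eq C hxy hQx hQy hk ?_
  refine hIH n C.W (C.sub hxy hQx (by omega)) ?_
  show S.k - 1 + 1 = S.k
  omega

theorem projNorm : S.ProjNorm M := by
  intro x hx hQx g hg hgx t ht
  obtain ⟨y, hxy, hQy⟩ := S.exists_partner hx hQx
  obtain ⟨n, ⟨C⟩⟩ := S.exists_chart hxy hQx hQy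
  have hk2 : 2 ≤ S.k := by omega
  obtain ⟨a, b, rfl⟩ := C.exists_χ hgx
  have ha : a ∈ (C.sub hxy hQx hk2).Nm := hO.proj_eq' hIH hk C hxy hQx hQy ▸ mem_proj.2 ⟨b, hg⟩
  obtain ⟨d, hd, d', e⟩ := C.exists_of_perp hxy hQx hk2 ht
  refine ⟨C.χ (a * d * a⁻¹, a * d * a⁻¹),
    C.diag_mem_Rm hxy hQx hk2 ((Subgroup.mem_normalizer_iff.1 ha.1 _).1 hd), ?_⟩
  rw [e, ← map_mul, ← map_inv, ← map_mul, C.χ_val, C.χ_val, C.one_add_x, C.blk_mul, C.blk_mul, C.blk_inj]
  simp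

/-- What an overgroup contains on one half alone lies in the group of that half. -/
theorem half_mem (hPN : S.ProjNorm M) {x y : V} {n : ℕ} (C : Chart S x y n) (hxy : S.B x y = 1) (hQx : S.Q x = 0)
    (hQy : S.Q y = 0) {c₀ : GL (Idx n) F} (hc₀ : C.χ (c₀, 1) ∈ M) :
    c₀ ∈ (C.sub hxy hQx (by omega : 2 ≤ S.k)).Rm := by
  have hk2 : 2 ≤ S.k := by omega
  set S₀ := C.sub hxy hQx hk2 with hS₀
  haveI : Nonempty (Idx n) := ⟨Sum.inl ⟨0, C.card_pos⟩⟩
  have hk₀ : S₀.k + 1 = S.k := by show S.k - 1 + 1 = S.k; omega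
  have hN : ∀ {c : GL (Idx n) F}, C.χ (c, 1) ∈ M → c ∈ S₀.Nm := fun h =>
    hO.proj_eq' hIH hk C hxy hQx hQy ▸ mem_proj.2 ⟨_, h⟩
  have hcomm : ∀ {c a : GL (Idx n) F}, C.χ (c, 1) ∈ M → a ∈ S₀.Nm → C.χ (c * a * c⁻¹ * a⁻¹, 1) ∈ M := by
    intro c a hc ha
    have hA := hO.ge (C.dg_self_mem hxy hQx hk2 ha)
    have h := M.mul_mem (M.mul_mem (M.mul_mem hc hA) (M.inv_mem hc)) (M.inv_mem hA)
    simpa [← map_inv, ← map_mul] using h
  -- an element fixing an involution acts trivially modulo it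
  have hP : ∀ {c : GL (Idx n) F}, C.χ (c, 1) ∈ M → ∀ {z : C.W}, z ≠ 0 → S₀.Q z = 0 → S₀.perm c z = z →
      ∀ t, S₀.B z t = 0 → S₀.perm c t = t ∨ S₀.perm c t = t + z := by
    intro c hc z hz hQz hcz t ht
    obtain ⟨w, hw⟩ := S₀.exists_B_one hz
    obtain ⟨c', hc', hperm, hcc⟩ : ∃ c', C.χ (c', 1) ∈ M ∧ S₀.perm c' t = S₀.perm c t ∧
        c' * S₀.e z = S₀.e z * c' := by
      rcases hcz ▸ S₀.perm_spec (hN hc) z with h | h <;> rw [mul_inv_eq_iff_eq_mul] at h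
      · exact ⟨c, hc, rfl, h⟩
      · refine ⟨S₀.e w * c, ?_, ?_, ?_⟩
        · have h' := M.mul_mem (hO.ge (C.one_side_mem hxy hQx hk2 (S₀.e_mem w))) hc
          rwa [← map_mul, Prod.mk_mul_mk, one_mul] at h'
        · rw [S₀.perm_mul (S₀.e_mem_Nm w) (hN hc), S₀.perm_e]
        · rw [mul_assoc, h, neg_mul, mul_neg, ← mul_assoc, S₀.e_comm w z, S₀.B_comm, hw, sg_one, neg_one_mul,
            neg_mul, neg_neg, mul_assoc]
    rw [← hperm]
    have hzV : (z : V) ≠ 0 := fun e => hz (Subtype.ext e)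
    obtain ⟨hxz, hyz⟩ := C.mem_W.1 z.2
    obtain ⟨s, hs, hse⟩ := hPN z hzV hQz (C.χ (c', 1)) hc'
      (by rw [C.e₀_spec, ← map_mul, ← map_mul, Prod.mk_mul_mk, Prod.mk_mul_mk, one_mul, mul_one,
        show C.e₀ z = S₀.e z from rfl, hcc]) y ((S.B_comm _ _).trans hyz)
    obtain ⟨d, hd, d', hsd⟩ := C.exists_blk_Rm hxy hQx hk2 hs
    set ε : Mx n F := (C.e₀ z : Mx n F) with hε
    have h1z : (1 : Mx m F) + S.E z = C.blk (1 + ε) 0 0 (1 + ε) := by
      show 1 + ((S.e (z : V)) : Mx m F) = _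
      rw [C.e₀_spec, C.χ_val, ← C.blk_one, C.blk_add]
      simp [hε]
    have hl : ((C.χ (c', 1) * S.e y * (C.χ (c', 1))⁻¹ : GL (Idx m) F) : Mx m F) =
        C.blk 0 (c' : Mx n F) (c'⁻¹ : GL (Idx n) F) 0 := by
      rw [← map_inv, mul_assoc, C.y_swap, ← mul_assoc, ← map_mul, Units.val_mul, C.χ_val]
      show _ * S.E y = _
      rw [← C.blk_y, C.blk_mul]
      simp
    rw [hl, h1z, C.blk_mul] at hse
    have hε0 : 1 + ε ≠ 0 := S₀.one_add_E_ne hz
    have hkey : (c' : Mx n F) * (1 + ε) = (d : Mx n F) * (1 + ε) := by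
      rcases hsd with e | e <;> rw [e, C.blk_mul, C.blk_inj] at hse <;>
        simp only [zero_mul, mul_zero, add_zero, zero_add] at hse
      · refine absurd ?_ hε0
        have h2 := congrArg (((c'⁻¹ : GL (Idx n) F) : Mx n F) * ·) hse.2.1
        simp only [mul_zero, ← mul_assoc, Units.inv_mul, one_mul] at h2
        exact h2
      · exact hse.2.1
    have hcε : (c' : Mx n F) * ε = ε * c' := congrArg Units.val hcc
    obtain ⟨v, hv⟩ := hd
    have hεE : ε = S₀.E z := rfl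
    have hεε : ε * ε = 1 := by rw [hεE, S₀.E_sq, hQz, sgn_zero, one_smul]
    have hvz : S₀.B v z = 0 := by
      by_contra hne
      have hdε : (d : Mx n F) * ε = -(ε * d) := by
        obtain ⟨γ, -, hγ⟩ := hv.smul_val
        rw [hγ, smul_mul_assoc, mul_smul_comm, hεE]
        show γ • (S₀.E v * S₀.E z) = _
        rw [S₀.E_comm v z, bit_ne_zero hne, sgn_one, neg_one_smul, smul_neg]
      have h2 : (1 + ε) * (c' : Mx n F) * (1 + ε) = 0 := by
        rw [mul_assoc, hkey, show (d : Mx n F) * (1 + ε) = (1 - ε) * d by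
          rw [mul_add, mul_one, hdε, sub_mul, one_mul, sub_eq_add_neg], ← mul_assoc,
          show (1 + ε) * (1 - ε) = 0 by rw [mul_sub, mul_one, add_mul, one_mul, hεε]; abel, zero_mul]
      rw [show (1 + ε) * (c' : Mx n F) = c' * (1 + ε) by rw [mul_add, add_mul, one_mul, mul_one, hcε], mul_assoc,
        show (1 + ε) * (1 + ε) = (2 : F) • (1 + ε) by
          simp only [mul_add, add_mul, mul_one, one_mul, hεε, two_smul]; abel, mul_smul_comm] at h2
      have h3 := congrArg (((c'⁻¹ : GL (Idx n) F) : Mx n F) * ·) ((smul_eq_zero.1 h2).resolve_left S.two)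
      simp only [mul_zero, ← mul_assoc, Units.inv_mul, one_mul] at h3
      exact hε0 h3
    have hdε : (d : Mx n F) * ε = ε * d := by
      obtain ⟨γ, -, hγ⟩ := hv.smul_val
      rw [hγ, smul_mul_assoc, mul_smul_comm, hεE]
      show γ • (S₀.E v * S₀.E z) = _
      rw [S₀.E_comm v z, hvz, sgn_zero, one_smul]
    have hci : (1 + ε) * ((c'⁻¹ : GL (Idx n) F) : Mx n F) = (1 + ε) * ((d⁻¹ : GL (Idx n) F) : Mx n F) := by
      have e1 : ∀ u : GL (Idx n) F, (u : Mx n F) * ε = ε * u →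
          (1 + ε) * ((u⁻¹ : GL (Idx n) F) : Mx n F) = ((u⁻¹ : GL (Idx n) F) : Mx n F) * (1 + ε) := by
        intro u hu
        rw [add_mul, mul_add, one_mul, mul_one]
        congr 1
        calc ε * ((u⁻¹ : GL (Idx n) F) : Mx n F)
            = ((u⁻¹ : GL (Idx n) F) : Mx n F) * ((u : Mx n F) * ε) * ((u⁻¹ : GL (Idx n) F) : Mx n F) := by
              rw [← mul_assoc, Units.inv_mul, one_mul]
          _ = _ := by rw [hu, ← mul_assoc, mul_assoc, Units.mul_inv, mul_one]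
      rw [e1 c' hcε, e1 d hdε]
      calc ((c'⁻¹ : GL (Idx n) F) : Mx n F) * (1 + ε)
          = ((c'⁻¹ : GL (Idx n) F) : Mx n F) * ((d : Mx n F) * (((d⁻¹ : GL (Idx n) F) : Mx n F) * (1 + ε))) := by
            rw [← mul_assoc (d : Mx n F), Units.mul_inv, one_mul]
        _ = ((c'⁻¹ : GL (Idx n) F) : Mx n F) * ((d : Mx n F) * (1 + ε)) * ((d⁻¹ : GL (Idx n) F) : Mx n F) := by
            rw [← e1 d hdε, mul_assoc, mul_assoc]
        _ = _ := by rw [← hkey, ← mul_assoc, Units.inv_mul, one_mul, e1 d hdε]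
    have htε : (S₀.E t) * ε = ε * S₀.E t := by
      rw [hεE, S₀.E_comm t z, S₀.B_comm, ht, sgn_zero, one_smul]
    have hflip : ∀ u : GL (Idx n) F, (u : Mx n F) * ε = ε * u →
        (1 + ε) * (u : Mx n F) = (u : Mx n F) * (1 + ε) := fun u hu => by rw [mul_add, add_mul, one_mul, mul_one, hu]
    have hctc : ((c' * S₀.e t * c'⁻¹ : GL (Idx n) F) : Mx n F) * (1 + ε) =
        ((d * S₀.e t * d⁻¹ : GL (Idx n) F) : Mx n F) * (1 + ε) := by
      have e2 : ∀ u : GL (Idx n) F, (u : Mx n F) * ε = ε * u →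
          ((u * S₀.e t * u⁻¹ : GL (Idx n) F) : Mx n F) * (1 + ε) =
            (u : Mx n F) * (1 + ε) * ((S₀.E t) * ((u⁻¹ : GL (Idx n) F) : Mx n F)) := by
        intro u hu
        have hu' : ((u⁻¹ : GL (Idx n) F) : Mx n F) * ε = ε * ((u⁻¹ : GL (Idx n) F) : Mx n F) := by
          have h := congrArg (fun X => ((u⁻¹ : GL (Idx n) F) : Mx n F) * X * ((u⁻¹ : GL (Idx n) F) : Mx n F)) hu.symm
          simpa [mul_assoc] using h
        rw [Units.val_mul, Units.val_mul, mul_assoc, mul_assoc, mul_assoc, ← hflip u⁻¹ hu', ← mul_assoc (1 + ε),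
          ← mul_assoc (S₀.E t) (1 + ε)]
        congr 2
        exact (hflip (S₀.e t) htε).symm
      rw [e2 c' hcε, e2 d hdε, hkey, mul_assoc, mul_assoc]
      congr 1
      rw [← mul_assoc, ← mul_assoc, hflip (S₀.e t) htε, mul_assoc, mul_assoc]
      congr 1
    obtain ⟨γ, -, hγ⟩ := (S₀.perm_spec (hN hc') t).smul_val
    obtain ⟨γ', -, hγ'⟩ := (((hv.mul (Pm.refl (S₀.e t))).mul hv.inv).trans (Pm.of_sg (S₀.e_conj v t))).smul_val
    rw [hγ, hγ', smul_mul_assoc, smul_mul_assoc] at hctc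
    have hγ0 : γ ≠ 0 := fun e => (c' * S₀.e t * c'⁻¹).ne_zero (by rw [hγ, e, zero_smul])
    refine S₀.eq_or_of_mul_add hz (c := γ⁻¹ * γ') ?_
    rw [mul_smul, ← hεE, ← hctc, smul_smul, inv_mul_cancel₀ hγ0, one_smul]
  refine S₀.mem_Rm_of_fix (hN hc₀).2 fun v => ?_
  suffices h : S₀.perm c₀ v = v by
    have := S₀.perm_spec (hN hc₀) v
    rwa [h] at this
  -- some nonsingular vector is moved
  by_contra hv
  have hspan := S₀.span_nonsing (by omega)
  obtain ⟨r, hrQ, hr⟩ : ∃ r, S₀.Q r = 1 ∧ S₀.perm c₀ r ≠ r := by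
    by_contra h
    push Not at h
    have h1 : LinearMap.eqLocus (S₀.lin (hN hc₀)) LinearMap.id = ⊤ :=
      eq_top_iff.2 (hspan.ge.trans (Submodule.span_le.2 fun a ha => h a ha))
    exact hv (h1.ge Submodule.mem_top : v ∈ LinearMap.eqLocus (S₀.lin (hN hc₀)) LinearMap.id)
  obtain ⟨s, hsQ, hsn⟩ : ∃ s, S₀.Q s = 1 ∧ s ∉ Submodule.span (ZMod 2) ({r, S₀.perm c₀ r} : Set C.W) := by
    by_contra h
    push Not at h
    have h1 := Submodule.finrank_mono (hspan.ge.trans (Submodule.span_le.2 fun a ha => h a ha))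
    have h2 := Quad.finrank_span_le_two r (S₀.perm c₀ r)
    rw [finrank_top, S₀.dim] at h1
    omega
  obtain ⟨g, hg, -, hgp⟩ := S₀.exists_gate (Pm.refl (S₀.e s)) hsQ (Pm.refl (S₀.e r)) hrQ
  have hginv : ∀ a, S₀.perm g⁻¹ a = S₀.tv s (S₀.tv r a) := fun a => by
    conv_lhs => rw [← S₀.tv_tv r a, ← S₀.tv_tv s (S₀.tv r a), ← hgp]
    rw [S₀.perm_inv_apply hg]
  set c₁ := c₀ * g * c₀⁻¹ * g⁻¹ with hc₁
  have hc₁M := hcomm hc₀ hg
  rw [← hc₁] at hc₁M
  have hc₁p : ∀ a, S₀.perm c₁ a = S₀.tv (S₀.perm c₀ r) (S₀.tv (S₀.perm c₀ s) (S₀.tv s (S₀.tv r a))) := fun a => by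
    rw [hc₁, S₀.perm_mul (Subgroup.mul_mem _ (Subgroup.mul_mem _ (hN hc₀) hg) (Subgroup.inv_mem _ (hN hc₀)))
      (Subgroup.inv_mem _ hg), hginv, S₀.perm_mul (Subgroup.mul_mem _ (hN hc₀) hg) (Subgroup.inv_mem _ (hN hc₀)),
      S₀.perm_mul (hN hc₀) hg, hgp, S₀.perm_tv (hN hc₀), S₀.perm_tv (hN hc₀), S₀.perm_apply_inv (hN hc₀)]
  obtain ⟨v₁, hv₁⟩ : ∃ a, S₀.perm c₁ a ≠ a := by
    by_contra h
    push Not at h
    have hne : S₀.perm c₀ s ≠ S₀.perm c₀ r := fun e => hsn (by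
      have e' := congrArg (S₀.perm c₀⁻¹) e
      rw [S₀.perm_inv_apply (hN hc₀), S₀.perm_inv_apply (hN hc₀)] at e'
      rw [e']
      exact Submodule.subset_span (by simp))
    have hr0 : S₀.perm c₀ r ≠ 0 := S₀.ne_zero_of_Q (by rw [S₀.Q_perm (hN hc₀), hrQ])
    obtain ⟨a, ha1, ha0⟩ := S₀.exists_B_one_zero hr0 hne.symm
    have h1 := hc₁p (S₀.tv r (S₀.tv s a))
    rw [h, S₀.tv_tv, S₀.tv_tv, S₀.tv_of_zero ha0, S₀.tv_of_one ha1] at h1
    have hmem : S₀.perm c₀ r ∈ Submodule.span (ZMod 2) ({r, s} : Set C.W) := by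
      have e : S₀.perm c₀ r = S₀.B s a • s + S₀.B r (S₀.tv s a) • r := by
        refine add_left_cancel (a := a) ?_
        rw [← h1, Quad.tv, Quad.tv]
        abel
      rw [e]
      exact Submodule.add_mem _ (Submodule.smul_mem _ _ (Submodule.subset_span (by simp)))
        (Submodule.smul_mem _ _ (Submodule.subset_span (by simp)))
    obtain ⟨α, β, e⟩ := Submodule.mem_span_pair.1 hmem
    rcases bit β with rfl | rfl
    · rcases bit α with rfl | rfl
      · rw [zero_smul, zero_smul, add_zero] at e; exact hr0 e.symm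
      · rw [one_smul, zero_smul, add_zero] at e; exact hr e.symm
    · refine hsn ?_
      rw [one_smul] at e
      have e' : s = α • r + S₀.perm c₀ r := by rw [← e, ← add_assoc, Quad.torsion, zero_add]
      rw [e']
      exact Submodule.add_mem _ (Submodule.smul_mem _ _ (Submodule.subset_span (by simp)))
        (Submodule.subset_span (by simp))
  -- a fixed nonsingular vector
  have hc₁N := hN hc₁M
  obtain ⟨σ, hσQ, hσ⟩ : ∃ σ, S₀.Q σ = 1 ∧ S₀.perm c₁ σ = σ := by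
    set U := S₀.perp (Submodule.span (ZMod 2) ({r, s, S₀.perm c₀ r, S₀.perm c₀ s} : Set C.W)) with hU
    have hUne : U ≠ ⊥ := fun e => by
      have h1 := S₀.finrank_perp (Submodule.span (ZMod 2) ({r, s, S₀.perm c₀ r, S₀.perm c₀ s} : Set C.W))
      rw [← hU, e, finrank_bot] at h1
      have hle : Submodule.span (ZMod 2) ({r, s, S₀.perm c₀ r, S₀.perm c₀ s} : Set C.W) ≤
          Submodule.span (ZMod 2) ({r, s} : Set C.W) ⊔
            Submodule.span (ZMod 2) ({S₀.perm c₀ r, S₀.perm c₀ s} : Set C.W) := by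
        rw [← Submodule.span_union]
        refine Submodule.span_mono fun a ha => ?_
        simp only [Set.mem_insert_iff, Set.mem_singleton_iff, Set.mem_union] at ha ⊢
        tauto
      have h2 := (Submodule.finrank_mono hle).trans (Submodule.finrank_add_le_finrank_add_finrank _ _)
      have h3 := Quad.finrank_span_le_two r s
      have h4 := Quad.finrank_span_le_two (S₀.perm c₀ r) (S₀.perm c₀ s)
      omega
    obtain ⟨z, hz, hz0⟩ := Submodule.exists_mem_ne_zero_of_ne_bot hUne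
    have hfix : S₀.perm c₁ z = z := by
      have h := S₀.mem_perp_span.1 hz
      rw [hc₁p, S₀.tv_of_zero (h r (by simp)), S₀.tv_of_zero (h s (by simp)),
        S₀.tv_of_zero (h _ (by simp)), S₀.tv_of_zero (h _ (by simp))]
    rcases bit (S₀.Q z) with hQz | hQz
    swap
    · exact ⟨z, hQz, hfix⟩
    let D := S₀.perp (Submodule.span (ZMod 2) {z})
    let L : D →ₗ[ZMod 2] C.W := (S₀.lin hc₁N + LinearMap.id).comp D.subtype
    have hL : LinearMap.range L ≤ Submodule.span (ZMod 2) {z} := by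
      rintro _ ⟨a, rfl⟩
      show S₀.perm c₁ a + a ∈ _
      rcases hP hc₁M hz0 hQz hfix a (S₀.mem_perp_span.1 a.2 z rfl) with e | e <;> rw [e]
      · rw [Quad.torsion]; exact Submodule.zero_mem _
      · rw [add_comm, Quad.add_cancel']; exact Submodule.mem_span_singleton_self z
    have h1 := L.finrank_range_add_finrank_ker
    have h2 := Submodule.finrank_mono hL
    have h3 : finrank (ZMod 2) D + finrank (ZMod 2) (Submodule.span (ZMod 2) {z}) = 2 * S₀.k :=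
      S₀.finrank_perp (Submodule.span (ZMod 2) {z})
    rw [finrank_span_singleton hz0] at h2 h3
    obtain ⟨σ, hσ, hσQ⟩ := S₀.exists_nonsing (U := (LinearMap.ker L).map D.subtype) (by
      rw [(Submodule.equivMapOfInjective _ D.injective_subtype (LinearMap.ker L)).finrank_eq.symm]
      omega)
    obtain ⟨a, ha, rfl⟩ := hσ
    refine ⟨_, hσQ, Quad.eq_of_add_eq_zero ?_⟩
    exact LinearMap.mem_ker.1 ha
  obtain ⟨r₁, hr₁Q, hr₁⟩ : ∃ a, S₀.Q a = 1 ∧ S₀.perm c₁ a ≠ a := by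
    by_contra h
    push Not at h
    have h1 : LinearMap.eqLocus (S₀.lin hc₁N) LinearMap.id = ⊤ :=
      eq_top_iff.2 (hspan.ge.trans (Submodule.span_le.2 fun a ha => h a ha))
    exact hv₁ (h1.ge Submodule.mem_top : v₁ ∈ LinearMap.eqLocus (S₀.lin hc₁N) LinearMap.id)
  obtain ⟨g₁, hg₁, -, hg₁p⟩ := S₀.exists_gate (Pm.refl (S₀.e σ)) hσQ (Pm.refl (S₀.e r₁)) hr₁Q
  have hg₁inv : ∀ a, S₀.perm g₁⁻¹ a = S₀.tv σ (S₀.tv r₁ a) := fun a => by
    conv_lhs => rw [← S₀.tv_tv r₁ a, ← S₀.tv_tv σ (S₀.tv r₁ a), ← hg₁p]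
    rw [S₀.perm_inv_apply hg₁]
  set c₂ := c₁ * g₁ * c₁⁻¹ * g₁⁻¹ with hc₂
  have hc₂M := hcomm hc₁M hg₁
  rw [← hc₂] at hc₂M
  have hc₂p : ∀ a, S₀.perm c₂ a = S₀.tv (S₀.perm c₁ r₁) (S₀.tv r₁ a) := fun a => by
    rw [hc₂, S₀.perm_mul (Subgroup.mul_mem _ (Subgroup.mul_mem _ hc₁N hg₁) (Subgroup.inv_mem _ hc₁N))
      (Subgroup.inv_mem _ hg₁), hg₁inv, S₀.perm_mul (Subgroup.mul_mem _ hc₁N hg₁) (Subgroup.inv_mem _ hc₁N),
      S₀.perm_mul hc₁N hg₁, hg₁p, S₀.perm_tv hc₁N, S₀.perm_tv hc₁N, S₀.perm_apply_inv hc₁N, hσ, S₀.tv_tv]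
  set r₂ := S₀.perm c₁ r₁ with hr₂
  have hr₂Q : S₀.Q r₂ = 1 := by rw [hr₂, S₀.Q_perm hc₁N, hr₁Q]
  obtain ⟨z, hzU, hz0, hzne, hQz⟩ := S₀.exists_singular_ne
    (U := S₀.perp (Submodule.span (ZMod 2) ({r₁, r₂} : Set C.W))) (by
      have := S₀.finrank_perp_two r₁ r₂
      omega) (z := r₁ + r₂) (fun e => hr₁ (Quad.eq_of_add_eq_zero e).symm)
  obtain ⟨hz₁, hz₂⟩ := S₀.mem_perp_pair.1 hzU
  obtain ⟨t, ht₁, htz⟩ := S₀.exists_B_one_zero (S₀.ne_zero_of_Q hr₁Q) (b := z) fun e => by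
    rw [← e, hr₁Q] at hQz; exact one_ne_zero hQz
  have h := hP hc₂M hz0 hQz (by rw [hc₂p, S₀.tv_of_zero hz₁, S₀.tv_of_zero hz₂]) t htz
  rw [hc₂p, S₀.tv_of_one ht₁] at h
  rcases bit (S₀.B r₂ (t + r₁)) with hb | hb
  · rw [S₀.tv_of_zero hb] at h
    rcases h with e | e
    · exact S₀.ne_zero_of_Q hr₁Q (add_eq_left.1 e)
    · rw [add_right_inj] at e; rw [← e, hr₁Q] at hQz; exact one_ne_zero hQz
  · rw [S₀.tv_of_one hb, add_assoc] at h
    rcases h with e | e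
    · exact hr₁ (Quad.eq_of_add_eq_zero (add_eq_left.1 e)).symm
    · exact hzne (add_right_inj _ |>.1 e).symm

theorem centOne : S.CentOne M := by
  intro x hx hQx
  obtain ⟨y, hxy, hQy⟩ := S.exists_partner hx hQx
  obtain ⟨n, ⟨C⟩⟩ := S.exists_chart hxy hQx hQy
  have hk2 : 2 ≤ S.k := by omega
  have hy := S.e_mem_Nm y
  have key : ∀ g ∈ M, g * S.e x = S.e x * g → g ∈ S.Nm := fun g hg h => by
    obtain ⟨a, b, rfl⟩ := C.exists_χ h
    have ha : a ∈ (C.sub hxy hQx hk2).Nm := hO.proj_eq' hIH hk C hxy hQx hQy ▸ mem_proj.2 ⟨b, hg⟩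
    have h1 : C.χ (1, a⁻¹ * b) ∈ M := by
      have := M.mul_mem (M.inv_mem (hO.ge (C.dg_self_mem hxy hQx hk2 ha))) hg
      simpa [← map_inv, ← map_mul] using this
    have ht := C.one_side_mem hxy hQx hk2
      (hO.half_mem hIH hk (hO.projNorm hIH hk) C hxy hQx hQy (hO.swap_mem C h1))
    have h2 := S.Nm.mul_mem (S.Nm.mul_mem hy ht) (S.Nm.inv_mem hy)
    rw [C.y_swap, mul_inv_cancel_right] at h2
    have h3 := S.Nm.mul_mem (C.dg_self_mem hxy hQx hk2 ha) h2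
    simpa [← map_mul] using h3
  intro g hg h
  rcases h with h | h <;> rw [mul_inv_eq_iff_eq_mul] at h
  · exact key g hg h
  · refine (S.Nm.mul_mem_cancel_left hy).1 (key _ (M.mul_mem (hO.ge hy) hg) ?_)
    rw [mul_assoc, h, neg_mul, mul_neg, ← mul_assoc, S.e_comm y x, S.B_comm, hxy, sg_one, neg_one_mul, neg_mul,
      neg_neg, mul_assoc]

end Over

end CfsgLib.Geo.PauliSp
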