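import Mathlib.LinearAlgebra.BilinearForm.Orthogonal
import Mathlib.LinearAlgebra.Dual.Lemmas
import Mathlib.FieldTheory.Finite.Basic
import Mathlib.Tactic

/-!
Quadratic spaces of minus type over the field of two elements.
-/

set_option autoImplicit false
set_option linter.unusedSectionVars false

namespace CfsgLib.Geo.PauliSp

open Module

theorem bit (a : ZMod 2) : a = 0 ∨ a = 1 := by revert a; decide

theorem bit_ne_zero {a : ZMod 2} (h : a ≠ 0) : a = 1 := (bit a).resolve_left h

/-- A nondegenerate quadratic space of minus type and dimension `2 k` over the field of two elements. -/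
structure Quad (V : Type*) [AddCommGroup V] [Module (ZMod 2) V] where
  k : ℕ
  B : LinearMap.BilinForm (ZMod 2) V
  Q : V → ZMod 2
  alt : B.IsAlt
  nondeg : B.Nondegenerate
  Q_add : ∀ x y, Q (x + y) = Q x + Q y + B x y
  dim : finrank (ZMod 2) V = 2 * k
  minus : ∀ U : Submodule (ZMod 2) V, (∀ x ∈ U, Q x = 0) → finrank (ZMod 2) U < k

namespace Quad

variable {V : Type*} [AddCommGroup V] [Module (ZMod 2) V] [Finite V] (S : Quad V)

theorem torsion (x : V) : x + x = 0 := by
  have h := two_smul (ZMod 2) x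
  rw [show (2 : ZMod 2) = 0 by decide, zero_smul] at h
  exact h.symm

theorem add_cancel' (x y : V) : x + (x + y) = y := by rw [← add_assoc, torsion, zero_add]

theorem eq_of_add_eq_zero {x y : V} (h : x + y = 0) : x = y :=
  add_right_cancel (b := y) (h.trans (torsion y).symm)

@[simp] theorem B_self (x : V) : S.B x x = 0 := S.alt x

theorem B_comm (x y : V) : S.B x y = S.B y x := by
  rw [← LinearMap.IsAlt.neg S.alt y x]
  exact CharTwo.neg_eq _

@[simp] theorem Q_zero : S.Q 0 = 0 := by
  have h := S.Q_add 0 0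
  simp only [add_zero, map_zero, LinearMap.zero_apply] at h
  linear_combination -h

theorem B_add (x y z : V) : S.B (x + y) z = S.B x z + S.B y z := by
  rw [map_add, LinearMap.add_apply]

theorem B_add' (x y z : V) : S.B x (y + z) = S.B x y + S.B x z := map_add _ _ _

theorem exists_B_one {x : V} (hx : x ≠ 0) : ∃ y, S.B x y = 1 := by
  by_contra h
  push Not at h
  exact hx (S.nondeg.1 x fun y => (bit _).resolve_right (h y))

theorem ne_zero_of_B {x y : V} (h : S.B x y = 1) : x ≠ 0 := fun e => by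
  rw [e, map_zero, LinearMap.zero_apply] at h
  exact zero_ne_one h

theorem ne_zero_of_Q {x : V} (h : S.Q x = 1) : x ≠ 0 := fun e => by
  rw [e, S.Q_zero] at h
  exact zero_ne_one h

/-- The orthogonal space. -/
def perp (U : Submodule (ZMod 2) V) : Submodule (ZMod 2) V := S.B.orthogonal U

theorem mem_perp {U : Submodule (ZMod 2) V} {x : V} : x ∈ S.perp U ↔ ∀ w ∈ U, S.B w x = 0 := Iff.rfl

theorem mem_perp_span {T : Set V} {x : V} :
    x ∈ S.perp (Submodule.span (ZMod 2) T) ↔ ∀ w ∈ T, S.B w x = 0 := by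
  refine ⟨fun h w hw => h w (Submodule.subset_span hw), fun h w hw => ?_⟩
  exact (Submodule.span_le (p := LinearMap.ker (S.B.flip x))).2 (fun v hv => LinearMap.mem_ker.2 (h v hv)) hw

theorem finrank_perp (U : Submodule (ZMod 2) V) :
    finrank (ZMod 2) (S.perp U) + finrank (ZMod 2) U = 2 * S.k := by
  have h1 := LinearMap.BilinForm.finrank_orthogonal S.nondeg U
  have h2 := U.finrank_le
  rw [S.dim] at h1 h2
  rw [perp, h1]
  omega

theorem finrank_span_le_two (a b : V) : finrank (ZMod 2) (Submodule.span (ZMod 2) ({a, b} : Set V)) ≤ 2 := by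
  classical
  have h := finrank_span_finset_le_card (R := ZMod 2) ({a, b} : Finset V)
  rw [Set.finrank, Finset.coe_pair] at h
  exact h.trans Finset.card_le_two

theorem finrank_perp_two (a b : V) :
    2 * S.k ≤ finrank (ZMod 2) (S.perp (Submodule.span (ZMod 2) ({a, b} : Set V))) + 2 := by
  have := S.finrank_perp (Submodule.span (ZMod 2) ({a, b} : Set V))
  have := finrank_span_le_two a b
  omega

theorem mem_perp_pair {a b x : V} :
    x ∈ S.perp (Submodule.span (ZMod 2) ({a, b} : Set V)) ↔ S.B a x = 0 ∧ S.B b x = 0 := by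
  simp [S.mem_perp_span]

theorem exists_hyp_pair {U : Submodule (ZMod 2) V} (h : S.k < finrank (ZMod 2) U) :
    ∃ a ∈ U, ∃ b ∈ U, S.B a b = 1 := by
  by_contra hno
  push Not at hno
  have h1 : U ≤ S.perp U := fun x hx w hw => (bit _).resolve_right (hno w hw x hx)
  have := Submodule.finrank_mono h1
  have := S.finrank_perp U
  omega

/-- On a coset of a subspace that is not totally isotropic the quadratic form takes both values. -/
theorem two_values {U : Submodule (ZMod 2) V} {a b : V} (ha : a ∈ U) (hb : b ∈ U) (hab : S.B a b = 1) (z : V)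
    (ε : ZMod 2) : ∃ w ∈ U, S.Q (z + w) = ε := by
  by_contra hno
  push Not at hno
  have h0 := hno 0 U.zero_mem
  have h1 := hno a ha
  have h2 := hno b hb
  have h3 := hno (a + b) (U.add_mem ha hb)
  rw [S.Q_add, S.Q_zero, map_zero, add_zero, add_zero] at h0
  rw [S.Q_add] at h1 h2 h3
  rw [S.Q_add a b, map_add, hab] at h3
  clear hno
  revert h0 h1 h2 h3
  generalize S.Q z = p, S.Q a = q, S.Q b = r, S.B z a = s, S.B z b = t
  revert p q r s t ε
  decide

/-- A nonzero singular vector of a subspace of dimension three, other than a given one. -/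
theorem exists_singular {U : Submodule (ZMod 2) V} (hU : 3 ≤ finrank (ZMod 2) U) :
    ∃ w ∈ U, w ≠ 0 ∧ S.Q w = 0 := by
  by_contra hno
  push Not at hno
  have hne : U ≠ ⊥ := fun e => by rw [e, finrank_bot] at hU; omega
  obtain ⟨a, ha, ha0⟩ := Submodule.exists_mem_ne_zero_of_ne_bot hne
  have hker := (S.B a).comp U.subtype |>.finrank_range_add_finrank_ker
  have hr : finrank (ZMod 2) (LinearMap.range ((S.B a).comp U.subtype)) ≤ 1 :=
    (Submodule.finrank_le _).trans_eq (finrank_self _)
  obtain ⟨b, hbK, hba⟩ : ∃ b ∈ LinearMap.ker ((S.B a).comp U.subtype), b ∉ Submodule.span (ZMod 2) {(⟨a, ha⟩ : U)} := by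
    by_contra h
    push Not at h
    have h1 := Submodule.finrank_mono (h : LinearMap.ker ((S.B a).comp U.subtype) ≤ _)
    rw [finrank_span_singleton (fun e => ha0 (congrArg Subtype.val e))] at h1
    omega
  have hb0 : (b : V) ≠ 0 := fun e => hba (by rw [show b = 0 from Subtype.ext e]; exact Submodule.zero_mem _)
  have hab0 : a + b ≠ 0 := fun e => hba (by
    rw [show b = ⟨a, ha⟩ from Subtype.ext (eq_of_add_eq_zero e).symm]
    exact Submodule.mem_span_singleton_self _)
  refine hno (a + b) (U.add_mem ha b.2) hab0 ?_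
  have hB : S.B a b = 0 := hbK
  rw [S.Q_add, hB, bit_ne_zero (hno a ha ha0), bit_ne_zero (hno b b.2 hb0)]
  decide

theorem exists_singular_ne {U : Submodule (ZMod 2) V} (hU : 4 ≤ finrank (ZMod 2) U) {z : V} (hz : z ≠ 0) :
    ∃ w ∈ U, w ≠ 0 ∧ w ≠ z ∧ S.Q w = 0 := by
  obtain ⟨y, hy⟩ := S.exists_B_one hz
  obtain ⟨w, hw, hw0, hwQ⟩ := S.exists_singular (U := U ⊓ LinearMap.ker (S.B y)) (by
    have h1 := Submodule.finrank_sup_add_finrank_inf_eq U (LinearMap.ker (S.B y))
    have h2 := (U ⊔ LinearMap.ker (S.B y)).finrank_le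
    have h3 := (S.B y).finrank_range_add_finrank_ker
    have h4 : finrank (ZMod 2) (LinearMap.range (S.B y)) ≤ 1 := (Submodule.finrank_le _).trans_eq (finrank_self _)
    omega)
  refine ⟨w, hw.1, hw0, fun e => ?_, hwQ⟩
  have h : S.B y w = 0 := hw.2
  rw [e, S.B_comm, hy] at h
  exact one_ne_zero h

/-- A nonsingular vector. -/
theorem exists_nonsing {U : Submodule (ZMod 2) V} (hU : S.k ≤ finrank (ZMod 2) U) : ∃ w ∈ U, S.Q w = 1 := by
  by_contra hno
  push Not at hno
  exact absurd (S.minus U fun x hx => (bit _).resolve_right (hno x hx)) (not_lt.2 hU)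

theorem k_pos : 0 < S.k := by
  have h := S.minus ⊥ fun x hx => by rw [(Submodule.mem_bot (ZMod 2)).1 hx, S.Q_zero]
  rwa [finrank_bot] at h

/-- A singular partner of a singular vector. -/
theorem exists_partner {x : V} (hx : x ≠ 0) (hQ : S.Q x = 0) : ∃ y, S.B x y = 1 ∧ S.Q y = 0 := by
  obtain ⟨y, hy⟩ := S.exists_B_one hx
  rcases bit (S.Q y) with h | h
  · exact ⟨y, hy, h⟩
  · refine ⟨y + x, by rw [S.B_add', hy, S.B_self, add_zero], ?_⟩
    rw [S.Q_add, h, hQ, S.B_comm, hy]
    decide

theorem span_nonsing (hk : 2 ≤ S.k) : Submodule.span (ZMod 2) {v : V | S.Q v = 1} = ⊤ := by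
  refine Submodule.eq_top_iff'.2 fun v => ?_
  by_cases hv : S.Q v = 1
  · exact Submodule.subset_span hv
  obtain ⟨w, hw, hwQ⟩ := S.exists_nonsing (U := S.perp (Submodule.span (ZMod 2) ({v, v} : Set V))) (by
    have := S.finrank_perp_two v v
    omega)
  have hB : S.B v w = 0 := (S.mem_perp_pair.1 hw).1
  have h1 : S.Q (v + w) = 1 := by rw [S.Q_add, hB, hwQ, (bit _).resolve_right hv]; decide
  have h : v + w + w ∈ Submodule.span (ZMod 2) {v : V | S.Q v = 1} :=
    Submodule.add_mem _ (Submodule.subset_span h1) (Submodule.subset_span (show S.Q w = 1 from hwQ))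
  rwa [add_assoc, torsion, add_zero] at h

end Quad

end CfsgLib.Geo.PauliSp
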