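import Cfsg.Agent.Geo.PauliSp.Space
import Cfsg.Agent.Geo.PauliEight.Sys
import Cfsg.Agent.Geo.SpEight.Blocks

/-!
Monomial systems of minus type inside symplectic groups: the matrices attached to the vectors of a binary
quadratic space, their coordinates and the monomial normaliser.
-/

set_option autoImplicit false
set_option linter.unusedSectionVars false
set_option linter.unusedSimpArgs false
set_option linter.style.haveILetI false

namespace CfsgLib.Geo.PauliSp

open Matrix Module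
open CfsgLib.Geo.PauliEight (sgn sgn_zero sgn_one sgn_mul sgn_sq sgn_inj cj cj_mul cj_smul cj_add cj_comp cj_of_smul
  cj_eq_self cj_of_comm cj_eq_of_mul cj_inv_cj cj_cj_inv cj_coe cj_one cj_one_left)

/-- The index type. -/
abbrev Idx (m : ℕ) := Fin m ⊕ Fin m

/-- Square matrices of that size. -/
abbrev Mx (m : ℕ) (F : Type*) := Matrix (Idx m) (Idx m) F

section sign

variable {m : ℕ} {F : Type*} [Field F]

/-- The sign of a bit as an invertible matrix. -/
def sg (b : ZMod 2) : GL (Idx m) F := if b = 0 then 1 else -1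

@[simp] theorem sg_zero : (sg 0 : GL (Idx m) F) = 1 := if_pos rfl
@[simp] theorem sg_one : (sg 1 : GL (Idx m) F) = -1 := if_neg (by decide)

theorem sg_val (b : ZMod 2) : ((sg b : GL (Idx m) F) : Mx m F) = sgn F b • 1 := by
  rcases bit b with rfl | rfl <;> simp

/-- Equality up to sign. -/
def Pm (a b : GL (Idx m) F) : Prop := a = b ∨ a = -b

theorem Pm.refl (a : GL (Idx m) F) : Pm a a := Or.inl rfl

theorem Pm.symm {a b : GL (Idx m) F} (h : Pm a b) : Pm b a := by
  rcases h with rfl | rfl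
  exacts [Or.inl rfl, Or.inr (neg_neg _).symm]

theorem Pm.trans {a b c : GL (Idx m) F} (h : Pm a b) (h' : Pm b c) : Pm a c := by
  rcases h with rfl | rfl <;> rcases h' with rfl | rfl <;> simp [Pm]

theorem Pm.mul {a b c d : GL (Idx m) F} (h : Pm a b) (h' : Pm c d) : Pm (a * c) (b * d) := by
  rcases h with rfl | rfl <;> rcases h' with rfl | rfl <;> simp [Pm]

theorem Pm.inv {a b : GL (Idx m) F} (h : Pm a b) : Pm a⁻¹ b⁻¹ := by
  rcases h with rfl | rfl
  exacts [Or.inl rfl, Or.inr (by simp)]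

theorem Pm.conj {a b : GL (Idx m) F} (g : GL (Idx m) F) (h : Pm a b) : Pm (g * a * g⁻¹) (g * b * g⁻¹) :=
  ((Pm.refl g).mul h).mul (Pm.refl g⁻¹)

theorem Pm.of_sg {a b : GL (Idx m) F} {β : ZMod 2} (h : a = sg β * b) : Pm a b := by
  rcases bit β with rfl | rfl
  · exact Or.inl (by rwa [sg_zero, one_mul] at h)
  · exact Or.inr (by rwa [sg_one, neg_one_mul] at h)

theorem Pm.smul_val {a b : GL (Idx m) F} (h : Pm a b) : ∃ c : F, (c = 1 ∨ c = -1) ∧ (a : Mx m F) = c • (b : Mx m F) := by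
  rcases h with rfl | rfl
  · exact ⟨1, Or.inl rfl, (one_smul _ _).symm⟩
  · exact ⟨-1, Or.inr rfl, by simp⟩

theorem Pm.cj_eq {a b : GL (Idx m) F} (h : Pm a b) (A : Mx m F) : cj a A = cj b A := by
  obtain ⟨c, -, e⟩ := h.smul_val
  exact cj_of_smul e A

theorem mem_iff_of_pm {H : Subgroup (GL (Idx m) F)} (hH : -1 ∈ H) {a b : GL (Idx m) F} (h : Pm a b) :
    a ∈ H ↔ b ∈ H := by
  rcases h with rfl | rfl
  · rfl
  · rw [← neg_one_mul b, H.mul_mem_cancel_left hH]

theorem neg_one_mem_sp : (-1 : GL (Idx m) F) ∈ Cfsg.spGL m F := by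
  rw [SpEight.mem_spGL_iff]
  simp

theorem transpose_J {g : GL (Idx m) F} (hg : g ∈ Cfsg.spGL m F) :
    (g : Mx m F)ᵀ * Matrix.J (Fin m) F = Matrix.J (Fin m) F * ((g⁻¹ : GL (Idx m) F) : Mx m F) := by
  have h := SpEight.mem_spGL_iff.1 hg
  calc (g : Mx m F)ᵀ * Matrix.J (Fin m) F
      = (g : Mx m F)ᵀ * Matrix.J (Fin m) F * (g : Mx m F) * ((g⁻¹ : GL (Idx m) F) : Mx m F) := by
        rw [mul_assoc, Units.mul_inv, mul_one]
    _ = _ := by rw [h]

theorem smul_J {c : F} (hm : 0 < m) (h : c • Matrix.J (Fin m) F = Matrix.J (Fin m) F) : c = 1 := by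
  have h1 := congrFun (congrFun h (Sum.inr ⟨0, hm⟩)) (Sum.inl ⟨0, hm⟩)
  simpa [Matrix.J] using h1

end sign

/-- A monomial system of minus type in a symplectic group. -/
structure Sys (m : ℕ) (F : Type*) [Field F] (V : Type*) [AddCommGroup V] [Module (ZMod 2) V] extends Quad V where
  e : V → GL (Idx m) F
  two : (2 : F) ≠ 0
  pos : 0 < m
  mem : ∀ x, e x ∈ Cfsg.spGL m F
  e_zero : e 0 = 1
  e_add : ∀ x y, Pm (e x * e y) (e (x + y))
  e_sq : ∀ x, e x * e x = sg (Q x)
  e_comm : ∀ x y, e x * e y = sg (B x y) * (e y * e x)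
  commutant : ∀ A : Mx m F, (∀ x, A * (e x : Mx m F) = (e x : Mx m F) * A) → ∃ c : F, A = c • 1

namespace Sys

variable {m : ℕ} {F : Type*} [Field F] {V : Type*} [AddCommGroup V] [Module (ZMod 2) V] [Fintype V]
  (S : Sys m F V)

/-- The monomial matrix. -/
abbrev E (x : V) : Mx m F := (S.e x : Mx m F)

include S in
theorem neg_ne (g : GL (Idx m) F) : g ≠ -g := fun h => by
  have h0 : (2 : F) • (g : Mx m F) = 0 := by
    rw [two_smul]; nth_rw 1 [h]; rw [Units.val_neg, neg_add_cancel]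
  haveI : Nonempty (Idx m) := ⟨Sum.inl ⟨0, S.pos⟩⟩
  exact g.ne_zero ((smul_eq_zero.1 h0).resolve_left S.two)

theorem e_comm' {x y : V} (h : S.B x y = 0) : S.e x * S.e y = S.e y * S.e x := by
  rw [S.e_comm, h, sg_zero, one_mul]

theorem e_anti {x y : V} (h : S.B x y = 1) : S.e x * S.e y = -(S.e y * S.e x) := by
  rw [S.e_comm, h, sg_one, neg_one_mul]

theorem e_conj (x y : V) : S.e x * S.e y * (S.e x)⁻¹ = sg (S.B x y) * S.e y := by
  rw [S.e_comm, mul_assoc, mul_assoc, mul_inv_cancel, mul_one]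

theorem e_inv (x : V) : Pm (S.e x)⁻¹ (S.e x) := by
  rcases bit (S.Q x) with h | h <;> have h' := S.e_sq x <;> rw [h] at h'
  · exact Or.inl (inv_eq_of_mul_eq_one_right (by simpa using h'))
  · exact Or.inr (inv_eq_of_mul_eq_one_right (by rw [mul_neg, h', sg_one, neg_neg]))

theorem E_comm (x y : V) : S.E x * S.E y = sgn F (S.B x y) • (S.E y * S.E x) := by
  show (S.e x : Mx m F) * (S.e y : Mx m F) = _
  rw [← Units.val_mul, S.e_comm, Units.val_mul, sg_val, smul_mul_assoc, one_mul, Units.val_mul]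

theorem E_sq (x : V) : S.E x * S.E x = sgn F (S.Q x) • 1 := by
  show (S.e x : Mx m F) * (S.e x : Mx m F) = _
  rw [← Units.val_mul, S.e_sq, sg_val]

theorem E_zero : S.E 0 = 1 := by rw [E, S.e_zero, Units.val_one]

theorem E_mul (x y : V) : ∃ c : F, (c = 1 ∨ c = -1) ∧ S.E x * S.E y = c • S.E (x + y) := by
  obtain ⟨c, hc, h⟩ := (S.e_add x y).smul_val
  exact ⟨c, hc, by rw [← h, Units.val_mul]⟩

theorem cj_E (x y : V) : cj (S.e x) (S.E y) = sgn F (S.B x y) • S.E y := by
  refine cj_eq_of_mul ?_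
  rw [smul_mul_assoc]
  exact S.E_comm x y

theorem eq_zero_of_pm_one {z : V} (h : Pm (S.e z) 1) : z = 0 := by
  by_contra hz
  obtain ⟨y, hy⟩ := S.exists_B_one hz
  have := S.e_anti hy
  rcases h with e | e <;> rw [e] at this <;> simp at this
  · exact S.neg_ne _ this
  · exact S.neg_ne _ this.symm

theorem eq_of_pm {x y : V} (h : Pm (S.e x) (S.e y)) : x = y := by
  refine Quad.eq_of_add_eq_zero (S.eq_zero_of_pm_one ?_)
  refine (S.e_add x y).symm.trans ((h.mul (Pm.refl _)).trans (Pm.of_sg (β := S.Q y) ?_))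
  rw [S.e_sq, mul_one]

/-! ### Coordinates -/

/-- The signed average of the conjugates. -/
noncomputable def avg (A : Mx m F) (y : V) : Mx m F := ∑ z, sgn F (S.B z y) • cj (S.e z) A

theorem sum_sgn (z : V) [DecidableEq V] :
    ∑ y, sgn F (S.B y z) = if z = 0 then (Fintype.card V : F) else 0 := by
  split_ifs with hz
  · subst hz; simp
  · obtain ⟨y₀, hy₀⟩ := S.exists_B_one hz
    have h := (Equiv.sum_comp (Equiv.addRight y₀) fun y => sgn F (S.B y z)).symm
    simp only [Equiv.coe_addRight, S.B_add, ← sgn_mul, ← Finset.sum_mul] at h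
    rw [S.B_comm y₀ z, hy₀, sgn_one, mul_neg_one] at h
    have h2 : (2 : F) * ∑ y, sgn F (S.B y z) = 0 := by linear_combination h
    exact (mul_eq_zero.1 h2).resolve_left S.two

theorem cj_avg (w : V) (A : Mx m F) (y : V) : cj (S.e w) (S.avg A y) = sgn F (S.B w y) • S.avg A y := by
  simp only [avg, Finset.smul_sum, smul_smul]
  rw [show cj (S.e w) (∑ z, sgn F (S.B z y) • cj (S.e z) A) = ∑ z, sgn F (S.B z y) • cj (S.e (w + z)) A by
    simp only [cj, Finset.mul_sum, Finset.sum_mul, mul_smul_comm, smul_mul_assoc]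
    refine Finset.sum_congr rfl fun z _ => congrArg _ ?_
    exact ((cj_comp (S.e w) (S.e z) A).symm.trans ((S.e_add w z).cj_eq A))]
  rw [← Equiv.sum_comp (Equiv.addLeft w)]
  refine Finset.sum_congr rfl fun z _ => ?_
  rw [Equiv.coe_addLeft, Quad.add_cancel', S.B_add, sgn_mul]

theorem exists_avg (A : Mx m F) (y : V) : ∃ c : F, S.avg A y = c • S.E y := by
  have hfix : ∀ w, cj (S.e w) (S.avg A y * ((S.e y)⁻¹ : GL (Idx m) F)) = S.avg A y * ((S.e y)⁻¹ : GL (Idx m) F) := by
    intro w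
    rw [cj_mul, S.cj_avg]
    have h1 : cj (S.e w) (((S.e y)⁻¹ : GL (Idx m) F) : Mx m F) = sgn F (S.B w y) • (((S.e y)⁻¹ : GL (Idx m) F) : Mx m F) := by
      obtain ⟨d, -, hd⟩ := (S.e_inv y).smul_val
      rw [hd, cj_smul, S.cj_E, smul_comm]
    rw [h1, smul_mul_smul_comm, sgn_sq, one_smul]
  obtain ⟨c, hc⟩ := S.commutant _ fun w => (cj_eq_self (hfix w)).symm
  refine ⟨c, ?_⟩
  have h := congrArg (· * S.E y) hc
  simpa [mul_assoc, E] using h

include S in
theorem card_ne : (Fintype.card V : F) ≠ 0 := by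
  rw [Module.card_eq_pow_finrank (K := ZMod 2) (V := V), ZMod.card, Nat.cast_pow]
  exact pow_ne_zero _ (by exact_mod_cast S.two)

theorem E_ne (x : V) : S.E x ≠ 0 := by
  haveI : Nonempty (Idx m) := ⟨Sum.inl ⟨0, S.pos⟩⟩
  exact (S.e x).ne_zero

theorem avg_add (A A' : Mx m F) (y : V) : S.avg (A + A') y = S.avg A y + S.avg A' y := by
  simp only [avg, cj_add, smul_add, Finset.sum_add_distrib]

theorem avg_smul (c : F) (A : Mx m F) (y : V) : S.avg (c • A) y = c • S.avg A y := by
  simp only [avg, cj_smul, Finset.smul_sum]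
  exact Finset.sum_congr rfl fun z _ => smul_comm _ _ _

theorem avg_unique {c d : F} {y : V} (h : c • S.E y = d • S.E y) : c = d :=
  smul_left_injective F (S.E_ne y) h

/-- The coordinate at a monomial. -/
noncomputable def coef (y : V) : Mx m F →ₗ[F] F where
  toFun A := (Fintype.card V : F)⁻¹ * (S.exists_avg A y).choose
  map_add' A A' := by
    rw [← mul_add]
    refine congrArg _ (S.avg_unique (y := y) ?_)
    rw [add_smul, ← (S.exists_avg A y).choose_spec, ← (S.exists_avg A' y).choose_spec,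
      ← (S.exists_avg (A + A') y).choose_spec, S.avg_add]
  map_smul' c A := by
    rw [RingHom.id_apply, smul_eq_mul, mul_left_comm]
    refine congrArg _ (S.avg_unique (y := y) ?_)
    rw [← (S.exists_avg (c • A) y).choose_spec, mul_smul, ← (S.exists_avg A y).choose_spec, S.avg_smul]

theorem avg_eq (A : Mx m F) (y : V) : S.avg A y = ((Fintype.card V : F) * S.coef y A) • S.E y := by
  show _ = ((Fintype.card V : F) * ((Fintype.card V : F)⁻¹ * _)) • _
  rw [mul_inv_cancel_left₀ S.card_ne]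
  exact (S.exists_avg A y).choose_spec

theorem coef_E [DecidableEq V] (y x : V) : S.coef y (S.E x) = if x = y then 1 else 0 := by
  have h := S.avg_eq (S.E x) y
  have h2 : S.avg (S.E x) y = (∑ z, sgn F (S.B z (x + y))) • S.E x := by
    simp only [avg, Finset.sum_smul, S.cj_E, smul_smul]
    refine Finset.sum_congr rfl fun z _ => congrArg (· • S.E x) ?_
    rw [S.B_add', sgn_mul, add_comm]
  rw [h2, S.sum_sgn] at h
  split_ifs with e
  · subst e
    rw [if_pos (Quad.torsion x)] at h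
    have := S.avg_unique h
    exact (mul_left_cancel₀ S.card_ne (by rw [mul_one]; exact this)).symm
  · rw [if_neg fun e' => e (Quad.eq_of_add_eq_zero e'), zero_smul] at h
    have := (smul_eq_zero.1 h.symm).resolve_right (S.E_ne y)
    exact (mul_eq_zero.1 this).resolve_left S.card_ne

theorem sum_coef (A : Mx m F) : ∑ y, S.coef y A • S.E y = A := by
  classical
  refine smul_right_injective _ S.card_ne ?_
  show (Fintype.card V : F) • ∑ y, S.coef y A • S.E y = (Fintype.card V : F) • A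
  rw [Finset.smul_sum]
  simp only [smul_smul, ← S.avg_eq]
  simp only [avg]
  rw [Finset.sum_comm]
  simp only [← Finset.sum_smul]
  rw [Finset.sum_eq_single (0 : V) (fun z _ hz => ?_) (by simp)]
  · rw [show (∑ y, sgn F (S.B 0 y)) = (Fintype.card V : F) by simp, S.e_zero, cj_one_left]
  · rw [show (∑ y, sgn F (S.B z y)) = ∑ y, sgn F (S.B y z) from Finset.sum_congr rfl fun y _ => by rw [S.B_comm],
      S.sum_sgn, if_neg hz, zero_smul]

theorem ext_coef {A A' : Mx m F} (h : ∀ y, S.coef y A = S.coef y A') : A = A' := by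
  rw [← S.sum_coef A, ← S.sum_coef A']
  exact Finset.sum_congr rfl fun y _ => by rw [h]

theorem coef_cj (w y : V) (A : Mx m F) : S.coef y (cj (S.e w) A) = sgn F (S.B w y) * S.coef y A := by
  refine mul_left_cancel₀ S.card_ne (S.avg_unique (y := y) ?_)
  rw [← S.avg_eq, mul_left_comm, mul_smul, ← S.avg_eq, ← S.cj_avg]
  simp only [avg]
  rw [show cj (S.e w) (∑ z, sgn F (S.B z y) • cj (S.e z) A) = ∑ z, cj (S.e w) (sgn F (S.B z y) • cj (S.e z) A) by
    simp only [cj, Finset.mul_sum, Finset.sum_mul]]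
  refine Finset.sum_congr rfl fun z _ => ?_
  rw [cj_smul, ← cj_comp, ← cj_comp, S.e_comm w z]
  exact congrArg _ ((Pm.of_sg (b := S.e z * S.e w) rfl).cj_eq A).symm

/-- The square of the dimension. -/
theorem card_sq : (2 * m) * (2 * m) = 2 ^ (2 * S.k) := by
  classical
  let L : (V → F) →ₗ[F] Mx m F :=
    { toFun := fun c => ∑ y, c y • S.E y
      map_add' := fun c d => by simp [add_smul, Finset.sum_add_distrib]
      map_smul' := fun a c => by simp [mul_smul, Finset.smul_sum] }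
  have hL : Function.Bijective L := by
    refine ⟨fun c d h => funext fun y => ?_, fun A => ⟨fun y => S.coef y A, S.sum_coef A⟩⟩
    have key : ∀ c : V → F, S.coef y (L c) = c y := fun c => by
      show S.coef y (∑ z, c z • S.E z) = _
      simp only [map_sum, map_smul, S.coef_E, smul_eq_mul, mul_ite, mul_one, mul_zero,
        Finset.sum_ite_eq', Finset.mem_univ, if_true]
    rw [← key c, ← key d, h]
  have h := (LinearEquiv.ofBijective L hL).finrank_eq
  rw [Module.finrank_fintype_fun_eq_card, Module.finrank_matrix, Module.finrank_self, mul_one,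
    Module.card_eq_pow_finrank (K := ZMod 2) (V := V), ZMod.card, S.dim] at h
  simp only [Fintype.card_sum, Fintype.card_fin] at h
  rw [h]; ring

theorem two_m : 2 * m = 2 ^ S.k := by
  have h := S.card_sq
  rw [two_mul S.k, pow_add] at h
  exact Nat.mul_self_inj.1 h

/-- A matrix whose conjugates are multiples of it has one coordinate, up to the radical. -/
theorem signs_coef {P : V → Prop} {A : Mx m F} (h : ∀ z, P z → ∃ t : F, cj (S.e z) A = t • A) {x y : V}
    (hx : S.coef x A ≠ 0) (hy : S.coef y A ≠ 0) {z : V} (hz : P z) : S.B z x = S.B z y := by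
  obtain ⟨t, ht⟩ := h z hz
  have h1 := congrArg (S.coef x) ht
  have h2 := congrArg (S.coef y) ht
  rw [S.coef_cj, map_smul, smul_eq_mul] at h1 h2
  exact sgn_inj S.two ((mul_right_cancel₀ hx h1).trans (mul_right_cancel₀ hy h2).symm)

theorem exists_coef_ne {A : Mx m F} (hA : A ≠ 0) : ∃ x, S.coef x A ≠ 0 := by
  by_contra h
  push Not at h
  exact hA (S.ext_coef fun x => by rw [h, map_zero])

/-- A matrix whose conjugates are multiples of it is a multiple of a monomial. -/
theorem eq_smul_E {A : Mx m F} (hA : A ≠ 0) (h : ∀ z, ∃ t : F, cj (S.e z) A = t • A) :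
    ∃ (c : F) (r : V), A = c • S.E r := by
  classical
  obtain ⟨r, hr⟩ := S.exists_coef_ne hA
  refine ⟨S.coef r A, r, ?_⟩
  conv_lhs => rw [← S.sum_coef A]
  refine Finset.sum_eq_single r (fun y _ hy => ?_) (by simp)
  by_contra h0
  have hyA : S.coef y A ≠ 0 := fun e => h0 (by rw [e, zero_smul])
  refine hy (Quad.eq_of_add_eq_zero (S.nondeg.1 _ fun z => ?_))
  rw [S.B_add, S.B_comm y, S.B_comm r, S.signs_coef (P := fun _ => True) (fun z _ => h z) hyA hr (z := z) trivial]
  exact CharTwo.add_self_eq_zero _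

theorem eq_of_perp_all {u x : V} (h : ∀ z, S.B u z = 0 → S.B z x = 0) : x = 0 ∨ x = u := by
  by_contra hx
  push Not at hx
  have h2 : S.perp (Submodule.span (ZMod 2) {u}) ≤ S.perp (Submodule.span (ZMod 2) ({u, x} : Set V)) := by
    intro z hz
    have hu := (S.mem_perp_span).1 hz u rfl
    exact S.mem_perp_pair.2 ⟨hu, (S.B_comm x z).trans (h z hu)⟩
  have h3 : finrank (ZMod 2) (Submodule.span (ZMod 2) {u}) < finrank (ZMod 2) (Submodule.span (ZMod 2) ({u, x} : Set V)) := by
    refine Submodule.finrank_lt_finrank_of_lt (lt_of_le_of_ne (Submodule.span_mono (by simp)) fun e => ?_)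
    have hxu : x ∈ Submodule.span (ZMod 2) {u} := e ▸ Submodule.subset_span (by simp)
    obtain ⟨a, rfl⟩ := Submodule.mem_span_singleton.1 hxu
    rcases bit a with rfl | rfl
    · exact hx.1 (zero_smul _ _)
    · exact hx.2 (one_smul _ _)
  have := Submodule.finrank_mono h2
  have := S.finrank_perp (Submodule.span (ZMod 2) {u})
  have := S.finrank_perp (Submodule.span (ZMod 2) ({u, x} : Set V))
  omega

/-- The two-coordinate shape of a matrix whose conjugates by the orthogonal monomials are multiples of it. -/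
theorem eq_pq_mul {u : V} (hu : S.Q u = 1) {A : Mx m F} (hA : A ≠ 0) (hAu : A * S.E u = S.E u * A)
    (h : ∀ z, S.B u z = 0 → ∃ t : F, cj (S.e z) A = t • A) :
    ∃ (r : V) (p q : F), S.B u r = 0 ∧ A = (p • 1 + q • S.E u) * S.E r := by
  classical
  obtain ⟨r, hr⟩ := S.exists_coef_ne hA
  have hru : r ≠ u + r := fun e => S.ne_zero_of_Q hu (right_eq_add.1 e)
  have hBr : S.B u r = 0 := by
    have h1 := S.coef_cj u r A
    rw [cj_of_comm hAu.symm] at h1
    by_contra hne
    rw [bit_ne_zero hne, sgn_one] at h1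
    exact hr ((mul_eq_zero.1 (show (2 : F) * S.coef r A = 0 by linear_combination h1)).resolve_left S.two)
  have hsup : ∀ y, S.coef y A ≠ 0 → y = r ∨ y = u + r := by
    intro y hy
    rcases S.eq_of_perp_all (u := u) (x := y + r) (fun z hz => by
      rw [S.B_add', S.signs_coef (P := fun z => S.B u z = 0) h hy hr hz]
      exact CharTwo.add_self_eq_zero _) with e | e
    · exact Or.inl (Quad.eq_of_add_eq_zero e)
    · exact Or.inr (by rw [← e, add_assoc, Quad.torsion, add_zero])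
  obtain ⟨c, hc, hcr⟩ := S.E_mul u r
  refine ⟨r, S.coef r A, c * S.coef (u + r) A, hBr, ?_⟩
  conv_lhs => rw [← S.sum_coef A]
  rw [Finset.sum_eq_add r (u + r) hru (fun y _ hy => ?_) (by simp) (by simp)]
  · rw [add_mul, smul_mul_assoc, one_mul, smul_mul_assoc, hcr, smul_smul]
    rcases hc with rfl | rfl <;> simp
  · by_contra h0
    rcases hsup y (fun e => h0 (by rw [e, zero_smul])) with e | e
    exacts [hy.1 e, hy.2 e]

/-- The commutant of the monomials orthogonal to `u`. -/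
theorem eq_pq {u : V} (hu : S.Q u = 1) {A : Mx m F}
    (h : ∀ z, S.B u z = 0 → A * S.E z = S.E z * A) : ∃ p q : F, A = p • 1 + q • S.E u := by
  classical
  have h0u : (0 : V) ≠ u := fun e => S.ne_zero_of_Q hu e.symm
  refine ⟨S.coef 0 A, S.coef u A, ?_⟩
  conv_lhs => rw [← S.sum_coef A]
  rw [Finset.sum_eq_add 0 u h0u (fun y _ hy => ?_) (by simp) (by simp), S.E_zero]
  by_contra h0
  have hyA : S.coef y A ≠ 0 := fun e => h0 (by rw [e, zero_smul])
  refine (S.eq_of_perp_all (u := u) (x := y) fun z hz => ?_).elim hy.1 hy.2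
  by_contra hne
  have h1 := S.coef_cj z y A
  rw [cj_of_comm (h z hz).symm, bit_ne_zero hne, sgn_one] at h1
  exact hyA ((mul_eq_zero.1 (show (2 : F) * S.coef y A = 0 by linear_combination h1)).resolve_left S.two)

theorem pq_inj [DecidableEq V] {u : V} (hu : S.Q u = 1) {p q p' q' : F}
    (h : p • (1 : Mx m F) + q • S.E u = p' • 1 + q' • S.E u) : p = p' ∧ q = q' := by
  have h0u : (0 : V) ≠ u := fun e => S.ne_zero_of_Q hu e.symm
  have e0 := congrArg (S.coef 0) h
  have e1 := congrArg (S.coef u) h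
  rw [← S.E_zero] at e0 e1
  simp only [map_add, map_smul, S.coef_E, smul_eq_mul, if_true, if_neg h0u, if_neg h0u.symm, mul_one, mul_zero,
    add_zero, zero_add] at e0 e1
  exact ⟨e0, e1⟩

theorem pq_norm {u : V} (hu : S.Q u = 1) {g : GL (Idx m) F} (hg : g ∈ Cfsg.spGL m F) {p q : F}
    (h : (g : Mx m F) = p • 1 + q • S.E u) : p * p + q * q = 1 := by
  have h1 := SpEight.mem_spGL_iff.1 hg
  have hi : ((S.e u)⁻¹ : GL (Idx m) F) = -S.e u := inv_eq_of_mul_eq_one_right (by
    rw [mul_neg, S.e_sq, hu, sg_one, neg_neg])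
  rw [h, Matrix.transpose_add, Matrix.transpose_smul, Matrix.transpose_smul, Matrix.transpose_one, add_mul,
    smul_mul_assoc, smul_mul_assoc, transpose_J (S.mem u), hi, Units.val_neg] at h1
  simp only [one_mul, mul_neg, add_mul, mul_add, smul_mul_assoc, mul_smul_comm, mul_one, smul_neg, neg_mul,
    mul_assoc, S.E_sq, hu, sgn_one, neg_one_smul, smul_smul] at h1
  refine smul_J S.pos ?_
  conv_rhs => rw [← h1]
  module

include S in
theorem smul_one_mem {g : GL (Idx m) F} (hg : g ∈ Cfsg.spGL m F) {c : F} (h : (g : Mx m F) = c • 1) : Pm g 1 := by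
  obtain ⟨u, -, hu⟩ := S.exists_nonsing (U := ⊤) (by rw [finrank_top, S.dim]; omega)
  have := S.pq_norm hu hg (p := c) (q := 0) (by rw [h, zero_smul, add_zero])
  rw [mul_zero, add_zero] at this
  rcases mul_self_eq_one_iff.1 this with rfl | rfl
  · exact Or.inl (Units.ext (by rw [h, one_smul, Units.val_one]))
  · exact Or.inr (Units.ext (by rw [h, neg_one_smul, Units.val_neg, Units.val_one]))

/-! ### The group and its normaliser -/

/-- The group of signed monomials. -/
def Rm : Subgroup (GL (Idx m) F) where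
  carrier := {g | ∃ x, Pm g (S.e x)}
  one_mem' := ⟨0, Or.inl S.e_zero.symm⟩
  mul_mem' := by
    rintro g h ⟨x, hx⟩ ⟨y, hy⟩
    exact ⟨x + y, (hx.mul hy).trans (S.e_add x y)⟩
  inv_mem' := by
    rintro g ⟨x, hx⟩
    exact ⟨x, hx.inv.trans (S.e_inv x)⟩

theorem mem_Rm {g : GL (Idx m) F} : g ∈ S.Rm ↔ ∃ x, Pm g (S.e x) := Iff.rfl

theorem e_mem (x : V) : S.e x ∈ S.Rm := ⟨x, Pm.refl _⟩

theorem neg_one_mem : (-1 : GL (Idx m) F) ∈ S.Rm := ⟨0, Or.inr (by rw [S.e_zero])⟩

theorem Rm_le : S.Rm ≤ Cfsg.spGL m F := by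
  rintro g ⟨x, hx⟩
  exact (mem_iff_of_pm neg_one_mem_sp hx).2 (S.mem x)

/-- The monomial normaliser in the symplectic group. -/
def Nm : Subgroup (GL (Idx m) F) := Subgroup.normalizer (S.Rm : Set (GL (Idx m) F)) ⊓ Cfsg.spGL m F

theorem Nm_le : S.Nm ≤ Cfsg.spGL m F := inf_le_right

theorem Rm_le_Nm : S.Rm ≤ S.Nm := le_inf Subgroup.le_normalizer S.Rm_le

theorem e_mem_Nm (x : V) : S.e x ∈ S.Nm := S.Rm_le_Nm (S.e_mem x)

theorem neg_one_mem_Nm : (-1 : GL (Idx m) F) ∈ S.Nm := S.Rm_le_Nm S.neg_one_mem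

theorem exists_image {g : GL (Idx m) F} (hg : g ∈ S.Nm) (x : V) : ∃ y, Pm (g * S.e x * g⁻¹) (S.e y) :=
  (Subgroup.mem_normalizer_iff.1 hg.1 _).1 (S.e_mem x)

theorem mem_Nm_of [Finite F] {g : GL (Idx m) F} (hg : g ∈ Cfsg.spGL m F)
    (h : ∀ x, ∃ y, Pm (g * S.e x * g⁻¹) (S.e y)) : g ∈ S.Nm := by
  refine ⟨?_, hg⟩
  have hmaps : ∀ a ∈ S.Rm, g * a * g⁻¹ ∈ S.Rm := by
    rintro a ⟨x, hx⟩
    obtain ⟨y, hy⟩ := h x
    exact ⟨y, (hx.conj g).trans hy⟩
  haveI : Finite (GL (Idx m) F) := inferInstance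
  let f : S.Rm → S.Rm := fun a => ⟨g * a * g⁻¹, hmaps a a.2⟩
  have hf : Function.Surjective f := Finite.surjective_of_injective fun a b hab => Subtype.ext (by
    have h' : g * (a : GL (Idx m) F) * g⁻¹ = g * b * g⁻¹ := congrArg Subtype.val hab
    simpa using h')
  refine Subgroup.mem_normalizer_iff.2 fun a => ⟨hmaps a, fun ha => ?_⟩
  obtain ⟨b, hb⟩ := hf ⟨_, ha⟩
  have h' : g * (b : GL (Idx m) F) * g⁻¹ = g * a * g⁻¹ := congrArg Subtype.val hb
  have : (b : GL (Idx m) F) = a := by simpa using h'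
  exact this ▸ b.2

open Classical in
/-- The permutation of the vectors induced by an element. -/
noncomputable def perm (g : GL (Idx m) F) (x : V) : V :=
  if h : ∃ y, Pm (g * S.e x * g⁻¹) (S.e y) then h.choose else 0

theorem perm_spec {g : GL (Idx m) F} (hg : g ∈ S.Nm) (x : V) : Pm (g * S.e x * g⁻¹) (S.e (S.perm g x)) := by
  rw [perm, dif_pos (S.exists_image hg x)]
  exact (S.exists_image hg x).choose_spec

theorem perm_eq {g : GL (Idx m) F} {x y : V} (h : Pm (g * S.e x * g⁻¹) (S.e y)) : S.perm g x = y := by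
  rw [perm, dif_pos ⟨y, h⟩]
  exact S.eq_of_pm ((Exists.choose_spec (p := fun y => Pm (g * S.e x * g⁻¹) (S.e y)) ⟨y, h⟩).symm.trans h)

theorem perm_add {g : GL (Idx m) F} (hg : g ∈ S.Nm) (x y : V) : S.perm g (x + y) = S.perm g x + S.perm g y := by
  refine S.perm_eq (((S.e_add x y).symm.conj g).trans ?_)
  rw [show g * (S.e x * S.e y) * g⁻¹ = g * S.e x * g⁻¹ * (g * S.e y * g⁻¹) by group]
  exact ((S.perm_spec hg x).mul (S.perm_spec hg y)).trans (S.e_add _ _)

theorem perm_one (x : V) : S.perm 1 x = x := S.perm_eq (by simpa using Pm.refl (S.e x))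

theorem perm_mul {g h : GL (Idx m) F} (hg : g ∈ S.Nm) (hh : h ∈ S.Nm) (x : V) :
    S.perm (g * h) x = S.perm g (S.perm h x) := by
  refine S.perm_eq ?_
  rw [show g * h * S.e x * (g * h)⁻¹ = g * (h * S.e x * h⁻¹) * g⁻¹ by group]
  exact ((S.perm_spec hh x).conj g).trans (S.perm_spec hg _)

theorem perm_inv_apply {g : GL (Idx m) F} (hg : g ∈ S.Nm) (x : V) : S.perm g⁻¹ (S.perm g x) = x := by
  rw [← S.perm_mul (S.Nm.inv_mem hg) hg, inv_mul_cancel, S.perm_one]

theorem perm_apply_inv {g : GL (Idx m) F} (hg : g ∈ S.Nm) (x : V) : S.perm g (S.perm g⁻¹ x) = x := by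
  rw [← S.perm_mul hg (S.Nm.inv_mem hg), mul_inv_cancel, S.perm_one]

theorem perm_zero {g : GL (Idx m) F} (hg : g ∈ S.Nm) : S.perm g 0 = 0 := by
  have h := S.perm_add hg 0 0
  rwa [add_zero, left_eq_add] at h

/-- The induced linear map. -/
noncomputable def lin {g : GL (Idx m) F} (hg : g ∈ S.Nm) : V →ₗ[ZMod 2] V where
  toFun := S.perm g
  map_add' := S.perm_add hg
  map_smul' c x := by
    rcases bit c with rfl | rfl
    · simp [S.perm_zero hg]
    · simp

theorem lin_apply {g : GL (Idx m) F} (hg : g ∈ S.Nm) (x : V) : S.lin hg x = S.perm g x := rfl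

include S in
theorem sg_inj {a b : ZMod 2} (h : (sg a : GL (Idx m) F) = sg b) : a = b := by
  rcases bit a with rfl | rfl <;> rcases bit b with rfl | rfl <;> simp at h ⊢
  · exact S.neg_ne _ h
  · exact S.neg_ne _ h.symm

theorem Q_eq_of_conj {g : GL (Idx m) F} {x y : V} (h : Pm (g * S.e x * g⁻¹) (S.e y)) : S.Q x = S.Q y := by
  refine S.sg_inj ?_
  have h1 : g * (S.e x * S.e x) * g⁻¹ = S.e y * S.e y := by
    rw [show g * (S.e x * S.e x) * g⁻¹ = g * S.e x * g⁻¹ * (g * S.e x * g⁻¹) by group]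
    rcases h with e | e <;> rw [e] <;> simp
  rw [S.e_sq, S.e_sq] at h1
  rw [← h1]
  rcases bit (S.Q x) with e | e <;> rw [e] <;> simp

theorem Q_perm {g : GL (Idx m) F} (hg : g ∈ S.Nm) (x : V) : S.Q (S.perm g x) = S.Q x :=
  (S.Q_eq_of_conj (S.perm_spec hg x)).symm

theorem B_perm {g : GL (Idx m) F} (hg : g ∈ S.Nm) (x y : V) : S.B (S.perm g x) (S.perm g y) = S.B x y := by
  have h := S.Q_perm hg (x + y)
  rw [S.perm_add hg, S.Q_add, S.Q_add x y, S.Q_perm hg, S.Q_perm hg] at h
  linear_combination h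

/-- An element fixing every line of monomials is a monomial. -/
theorem mem_Rm_of_fix {g : GL (Idx m) F} (hg : g ∈ Cfsg.spGL m F) (h : ∀ x, Pm (g * S.e x * g⁻¹) (S.e x)) :
    g ∈ S.Rm := by
  haveI : Nonempty (Idx m) := ⟨Sum.inl ⟨0, S.pos⟩⟩
  obtain ⟨c, r, hcr⟩ := S.eq_smul_E (A := (g : Mx m F)) g.ne_zero fun z => by
    rcases h z with e | e <;> rw [mul_inv_eq_iff_eq_mul] at e
    · exact ⟨1, by rw [one_smul]; exact cj_of_comm (by rw [← Units.val_mul, ← Units.val_mul, e])⟩
    · refine ⟨-1, cj_eq_of_mul ?_⟩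
      rw [← Units.val_mul, smul_mul_assoc, ← Units.val_mul, e]
      simp
  refine ⟨r, ?_⟩
  have h1 := S.smul_one_mem (g := g * (S.e r)⁻¹) (c := c)
    ((Cfsg.spGL m F).mul_mem hg ((Cfsg.spGL m F).inv_mem (S.mem r))) (by
      rw [Units.val_mul, hcr, smul_mul_assoc, Units.mul_inv])
  have h2 := h1.mul (Pm.refl (S.e r))
  rwa [inv_mul_cancel_right, one_mul] at h2

end Sys

end CfsgLib.Geo.PauliSp
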